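import Cfsg.Agent.H48.DNASpec

/-! S3275, chapter alpha, slot T1: the case `O₂(C(y)) = 1`. -/

set_option autoImplicit false

open Subgroup Cfsg H98 H48.DP H57.DPC H48.DP2
open scoped commutatorElement

namespace H6.Dp0T1

universe u

variable {G : Type u} [Group G]

theorem memC {x g : G} : g ∈ C1 x ↔ x * g = g * x := by
  simp [mem_centralizer_iff]

theorem c1_ne_top (h : H48.DP.Hyp G) {x : G} (hx : x ≠ 1) : C1 x ≠ ⊤ := fun e => by
  have := h.simple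
  have hc : x ∈ center G := mem_center_iff.2 fun g => (memC.1 (e ▸ mem_top g : g ∈ C1 x)).symm
  rcases IsSimpleGroup.eq_bot_or_eq_top_of_normal (center G) inferInstance with h1 | h1
  · exact hx (mem_bot.1 (h1 ▸ hc))
  · exact h.nc ⟨⟨fun a b => (mem_center_iff.1 (h1 ▸ mem_top b : b ∈ center G) a)⟩⟩

theorem le_comm [Finite G] {Q : Subgroup G} {y : G} (hy : y ∈ No Q) (d : Q ⊓ C1 y = ⊥) :
    Q ≤ ⁅Q, zpowers y⁆ := by
  let f : Q → Q := fun q => ⟨(q : G)⁻¹ * (y * q * y⁻¹),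
    mul_mem (inv_mem q.2) (conj_mem_of_mem_normalizer hy q.2)⟩
  have inj : Function.Injective f := fun a b e => by
    have e1 : (a : G)⁻¹ * (y * a * y⁻¹) = (b : G)⁻¹ * (y * b * y⁻¹) := congrArg Subtype.val e
    have m : (b : G) * (a : G)⁻¹ ∈ Q ⊓ C1 y := ⟨Q.mul_mem b.2 (Q.inv_mem a.2), memC.2 (by
      calc y * ((b : G) * (a : G)⁻¹)
          = b * ((b : G)⁻¹ * (y * b * y⁻¹)) * y * (a : G)⁻¹ := by group
        _ = (b : G) * (a : G)⁻¹ * y := by rw [← e1]; group)⟩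
    rw [d, mem_bot, mul_inv_eq_one] at m
    exact Subtype.ext m.symm
  intro q hq
  obtain ⟨a, ha⟩ := Finite.surjective_of_injective inj ⟨q, hq⟩
  have e : (a : G)⁻¹ * (y * a * y⁻¹) = q := congrArg Subtype.val ha
  have : q = ⁅(a : G)⁻¹, y⁆ := by rw [← e, commutatorElement_def]; group
  rw [this]
  exact commutator_mem_commutator (inv_mem a.2) (mem_zpowers y)

theorem job : JT1.{u} := by
  intro t6a g1 cp pk n1 G _ _ M Q P y z r h
  have f2 : Fact (Nat.Prime 2) := ⟨Nat.prime_two⟩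
  have f3 : Fact (Nat.Prime 3) := ⟨Nat.prime_three⟩
  have hy : H48.DP.Hyp G := h.toUa.toHyp2.toHyp
  have d : Q ⊓ C1 y = ⊥ := h.dy.symm.trans (n1 G M Q P y z r h)
  have zP : z ∈ P := commutator_le_of_le le_rfl le_rfl (h.lt.der ▸ mem_zpowers z)
  have yz : Commute y z := memC.1 (h.lt.Py zP)
  have nz : y ∉ zpowers z := fun e => h.lt.yP ((zpowers_le (G := G)).2 zP e)
  have hQ : IsPGroup 2 Q := h.o2 ▸ isPGroup_pCoreOf _
  have MQ : M ≤ No Q := h.no.ge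
  have z1 : z ≠ 1 := fun e => by
    have := h.lt.z3
    rw [e, orderOf_one] at this
    omega
  obtain ⟨⟨B, hB, hBP, yB, zB⟩, hH⟩ := g1 G M Q P y z r h.toUa h.lt h.PM h.yM
  have BM : B ≤ M := hBP.trans (sup_le h.PM ((zpowers_le (G := G)).2 h.yM))
  have tr : ∀ a b : G, r * a * r⁻¹ = b → Q ⊓ C1 b = ⊥ → Q ⊓ C1 a = ⊥ := fun a b e hb =>
    eq_bot_iff.2 fun q hq => by
      have m : r * q * r⁻¹ ∈ Q ⊓ C1 b := ⟨conj_mem_of_mem_normalizer (MQ h.rM) hq.1, memC.2 (by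
        have := memC.1 hq.2
        rw [← e]
        calc r * a * r⁻¹ * (r * q * r⁻¹) = r * (a * q) * r⁻¹ := by group
          _ = r * q * r⁻¹ * (r * a * r⁻¹) := by rw [this]; group)⟩
      rw [hb, mem_bot, conj_eq_one_iff] at m
      exact mem_bot.2 m
  have ry : r * y * r⁻¹ = y := by rw [h.lt.ry.eq, mul_inv_cancel_right]
  have e1 : r * (y * z) * r⁻¹ = y * z⁻¹ := by
    calc r * (y * z) * r⁻¹ = r * y * r⁻¹ * (r * z * r⁻¹) := by group
      _ = y * z⁻¹ := by rw [ry, h.lt.rz]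
  have e2 : r * (y * z⁻¹) * r⁻¹ = y * z := by
    calc r * (y * z⁻¹) * r⁻¹ = r * y * r⁻¹ * (r * z * r⁻¹)⁻¹ := by group
      _ = y * z := by rw [ry, h.lt.rz, inv_inv]
  have both : Q ⊓ C1 (y * z) = ⊥ → Q ⊓ C1 (y * z⁻¹) = ⊥ → False := fun a b => by
    have k := (t6a G Q (C1 z) y z hQ h.lt.y3 h.lt.z3 yz nz (MQ h.yM) (MQ (h.PM zP)) inf_le_right
      (a ▸ bot_le) (b ▸ bot_le)).1
    have zQ : z ∈ Q := h.cq (mem_centralizer_iff.2 fun q hq =>
      (memC.1 (k (le_comm (MQ h.yM) d hq))).symm)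
    obtain ⟨n, hn⟩ := hQ ⟨z, zQ⟩
    have hd : orderOf z ∣ 2 ^ n := orderOf_dvd_of_pow_eq_one (congrArg Subtype.val hn)
    rw [h.lt.z3] at hd
    exact absurd (Nat.prime_three.dvd_of_dvd_pow hd) (by norm_num)
  have m1 : Q ⊓ C1 (y * z) ≠ ⊥ := fun a => both a (tr _ _ e2 a)
  have m2 : Q ⊓ C1 (y * z⁻¹) ≠ ⊥ := fun b => both (tr _ _ e1 b) b
  have cc : ∀ w : G, w ∈ zpowers z → Q ⊓ C1 (y * w) ≠ ⊥ → C1 (y * w) ≤ M := fun w hw hn => by
    have cw : Commute y w := by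
      obtain ⟨n, rfl⟩ := hw
      exact yz.zpow_right n
    have w1 : y * w ≠ 1 := fun e => nz (by rw [eq_inv_of_mul_eq_one_left e]; exact inv_mem hw)
    have w3 : w ^ 3 = 1 := by
      obtain ⟨n, rfl⟩ := hw
      show (z ^ n) ^ 3 = 1
      rw [← zpow_natCast, ← zpow_mul, mul_comm, zpow_mul, zpow_natCast, ← h.lt.z3,
        pow_orderOf_eq_one, one_zpow]
    have o3 : orderOf (y * w) = 3 := orderOf_eq_prime (by
      rw [cw.mul_pow, w3, ← h.lt.y3, pow_orderOf_eq_one, one_mul]) w1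
    have PC : P ≤ C1 (y * w) := fun p hp => memC.2 (by
      have a : Commute y p := memC.1 (h.lt.Py hp)
      have b : Commute z p := memC.1 (h.lt.zc hp)
      obtain ⟨n, rfl⟩ := hw
      exact (a.mul_left (b.zpow_left n)).eq)
    refine (hH _ (c1_ne_top hy w1) PC
      (memC.2 ((Commute.refl y).mul_left cw.symm).eq)).resolve_right fun al => hn ?_
    have iu : InU M (zpowers (y * w)) := ⟨B, BM, hB, (zpowers_le (G := G)).2
      (mul_mem yB ((zpowers_le (G := G)).2 zB hw))⟩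
    obtain ⟨P', z', r', k⟩ := pk G M Q (y * w) ⟨h.toUa, o3, iu, al⟩
    exact (h.dq _ o3 iu).symm.trans (n1 G M Q P' _ z' r' k)
  refine ⟨h, d, ?_, cc z (mem_zpowers z) m1, cc z⁻¹ (inv_mem (mem_zpowers z)) m2, m1, m2⟩
  exact (hH _ (c1_ne_top hy z1) h.lt.zc (memC.2 yz.symm.eq)).resolve_right fun al =>
    (cp G M _ P y z r h.lt al h.lt.zc).1 le_rfl

end H6.Dp0T1
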