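import Cfsg.Agent.H57.U2CSpec

/-! S3275, chapter U2F, slot Q1: one involution with a small commutator space. -/

set_option autoImplicit false

open Subgroup Cfsg H98 H96 H48.DP H96.U2I H57.U2C

namespace H6.DpvQ1

universe u

variable {W : Type u} [AddCommGroup W]

theorem card_le_ncard {α β : Type*} [Finite β] (f : α → β) (S : Set β) (hf : ∀ a, f a ∈ S)
    (inj : Function.Injective f) : Nat.card α ≤ S.ncard := by
  rw [← Nat.card_coe_set_eq]
  exact Nat.card_le_card_of_injective (fun a => (⟨f a, hf a⟩ : S))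
    fun a b e => inj (congrArg Subtype.val e)

theorem ncard3 {β : Type*} (a b c : β) : ({a, b, c} : Set β).ncard ≤ 3 :=
  (Set.ncard_insert_le _ _).trans (by
    have := Set.ncard_insert_le b ({c} : Set β)
    rw [Set.ncard_singleton] at this
    omega)

theorem ncard4 {β : Type*} (a b c d : β) : ({a, b, c, d} : Set β).ncard ≤ 4 :=
  (Set.ncard_insert_le _ _).trans (by have := ncard3 b c d; omega)

theorem inj_smul {F : Subgroup (Au W)} {s : W} (h : ∀ e ∈ F, e • s = s → e = 1)
    {A : Subgroup (Au W)} (hA : A ≤ F) : Function.Injective fun e : A => (e : Au W) • s :=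
  fun a b e => Subtype.ext (inv_mul_eq_one.1 (h _ (hA (mul_mem (inv_mem b.2) a.2)) (by
    have e' : (a : Au W) • s = (b : Au W) • s := e
    rw [mul_smul, e', inv_smul_smul]))).symm

theorem ts [Finite W] (ta : TA.{u}) {F : Subgroup (Au W)} (two : ∀ w : W, w + w = 0)
    (F3 : IsPGroup 3 F) (e27 : E27 F) {x : Au W} {c : W} (hx : x ∈ F) (x3 : orderOf x = 3)
    (tp : Tp x c) (h : ∀ e ∈ F, e • c = c → e = 1) : False := by
  obtain ⟨B, hB, ea, hc⟩ := e27
  have h1 := card_le_ncard _ {c, x • c, c + x • c} (fun b : B => by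
    rcases ta W F x b c two F3 hx (hB b.2) x3 (ea.2 _ b.2) tp with k | k
    · exact k.1
    · have := h _ (mul_mem (mul_mem (hB b.2) hx) (inv_mem (hB b.2))) k.1
      rw [conj_eq_one_iff] at this
      rw [this, orderOf_one] at x3
      omega) (inj_smul h hB)
  have := ncard3 c (x • c) (c + x • c)
  omega

theorem wx_smul {x f : Au W} (h : Commute x f) {w : W} (hw : w ∈ Wx x) : f • w ∈ Wx x :=
  smul_mem_of_nrm (nrm_cm (U := ⊤) (A := zpowers x) ⟨by rw [nrm_top]; trivial, by
    apply centralizer_le_normalizer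
    rintro _ ⟨n, rfl⟩
    exact (h.zpow_left n).eq⟩) hw

/-- A subgroup of order at least 3 inside `{0, s, c, c + s}`. -/
theorem full [Finite W] (two : ∀ w : W, w + w = 0) {I : Set W} {s c : W}
    (add : ∀ a ∈ I, ∀ b ∈ I, a + b ∈ I) (sub : ∀ a ∈ I, a = 0 ∨ a = s ∨ a = c ∨ a = c + s)
    (h3 : 3 ≤ I.ncard) : s ∈ I ∧ c ∈ I := by
  constructor
  · by_contra h
    have e : I = {0, c, c + s} := Set.eq_of_subset_of_ncard_le (fun a ha => by
      rcases sub a ha with k | k | k | k
      · exact Or.inl k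
      · exact absurd (k ▸ ha) h
      · exact Or.inr (Or.inl k)
      · exact Or.inr (Or.inr k)) ((ncard3 _ _ _).trans h3)
    have := add c (by rw [e]; simp) (c + s) (by rw [e]; simp)
    rw [← add_assoc, two, zero_add] at this
    exact h this
  · by_contra h
    have e : I = {0, s, c + s} := Set.eq_of_subset_of_ncard_le (fun a ha => by
      rcases sub a ha with k | k | k | k
      · exact Or.inl k
      · exact Or.inr (Or.inl k)
      · exact absurd (k ▸ ha) h
      · exact Or.inr (Or.inr k)) ((ncard3 _ _ _).trans h3)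
    have := add (c + s) (by rw [e]; simp) s (by rw [e]; simp)
    rw [add_assoc, two, add_zero] at this
    exact h this

theorem eq_of_add (two : ∀ w : W, w + w = 0) {a b : W} (h : a + b = 0) : a = b := by
  rw [← add_zero a, ← two b, ← add_assoc, h, zero_add]

/-- One of `x'`, `x x'`, `x x'⁻¹` has a fixed vector in `[W, x]`. -/
theorem eig (two : ∀ w : W, w + w = 0) {x x' : Au W} (x3 : x ^ 3 = 1) (y3 : x' ^ 3 = 1)
    (c : Commute x x') (fpf : ∀ w ∈ Wx x, x • w = w → w = 0) {v : W} (hv : v ∈ Wx x)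
    (v0 : v ≠ 0) : ∃ u ∈ Wx x, u ≠ 0 ∧ (x' • u = u ∨ (x * x') • u = u ∨ (x * x'⁻¹) • u = u) := by
  have p3 : ∀ {g : Au W}, g ^ 3 = 1 → ∀ w : W, g • g • g • w = w := fun {g} h w => by
    rw [← mul_smul, ← mul_smul, ← pow_three', h, one_smul]
  have cc : ∀ w : W, x • x' • w = x' • x • w := fun w => by rw [← mul_smul, c.eq, mul_smul]
  by_cases h0 : x' • v = v
  · exact ⟨v, hv, v0, Or.inl h0⟩
  have m1 : x' • v + v ∈ Wx x := add_mem (wx_smul c hv) hv
  have n1 : x' • v + v ≠ 0 := fun e => h0 (eq_of_add two e)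
  generalize hw : x' • v + v = w at m1 n1
  have r1 : x' • x' • w = x' • w + w := by
    apply eq_of_add two
    rw [← hw]
    simp only [smul_add, p3 y3]
    calc v + x' • x' • v + (x' • x' • v + x' • v + (x' • v + v))
        = (v + v) + (x' • x' • v + x' • x' • v) + (x' • v + x' • v) := by abel
      _ = 0 := by rw [two v, two (x' • v), two (x' • x' • v), add_zero, add_zero]
  have r2 : x • x • w = x • w + w := by
    apply eq_of_add two
    have mx := wx_smul (Commute.refl x) m1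
    refine fpf _ (add_mem (wx_smul (Commute.refl x) mx) (add_mem mx m1)) ?_
    simp only [smul_add, p3 x3]
    abel
  by_cases h1 : x • w + x' • x' • w = 0
  · refine ⟨w, m1, n1, Or.inr (Or.inl ?_)⟩
    rw [mul_smul, cc, eq_of_add two h1, p3 y3]
  · refine ⟨_, add_mem (wx_smul (Commute.refl x) m1) (wx_smul c (wx_smul c m1)), h1,
      Or.inr (Or.inr ?_)⟩
    rw [c.inv_right.eq, mul_smul, inv_smul_eq_iff]
    rw [smul_add, smul_add, p3 y3, r2, r1, smul_add, cc]
    calc x • w + w + (x' • x • w + x • w) = (x • w + x • w) + (x' • x • w + w) := by abel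
      _ = x' • x • w + w := by rw [two, zero_add]

theorem jobQ1 : JobQ1.{u} := by
  intro dh pr ta l3 W _ _ F B N s q e27 hB hN reg hs
  have f3 : Fact (Nat.Prime 3) := ⟨Nat.prime_three⟩
  replace hB : Nat.card B = 2 := hB
  obtain ⟨d, a', x', fam⟩ := dh W F B q
  have hd : 0 < d := by
    by_contra h
    have := fam.card
    rw [hB, show d = 0 by omega] at this
    omega
  obtain ⟨a, aB, x0, x0F, x03, inv0⟩ : ∃ a ∈ B, ∃ x ∈ F, orderOf x = 3 ∧ a * x * a⁻¹ = x⁻¹ :=
    ⟨_, fam.aB ⟨0, hd⟩, _, fam.xF ⟨0, hd⟩, fam.x3 _, fam.inv _⟩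
  have aa : a * a = 1 := by
    have := pow_card_eq_one' (x := (⟨a, aB⟩ : B))
    rw [hB, pow_two] at this
    exact congrArg Subtype.val this
  have P : ∀ x : Au W, orderOf x = 3 → a * x * a⁻¹ = x⁻¹ → Pr a x := fun x => pr W a x q.two aa
  have s0 : s ≠ 0 := fun e => by
    rw [reg x0 x0F (by rw [e, smul_zero]), orderOf_one] at x03
    omega
  have i2 : N.index = 2 := by
    by_contra h
    have h1 : N.index = 1 := by have := idx_pos N; omega
    rw [AddSubgroup.index_eq_one] at h1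
    have p := P x0 x03 inv0
    have h2 : nI a x0 ≤ 2 := by
      rw [← p.img]
      refine (Set.ncard_le_ncard (t := {0, s}) ?_).trans (by
        have := Set.ncard_insert_le 0 ({s} : Set W)
        rwa [Set.ncard_singleton] at this)
      rintro _ ⟨w, -, rfl⟩
      exact hs w (h1 ▸ AddSubgroup.mem_top w) a aB
    obtain ⟨w, tp, -⟩ := p.tp (le_antisymm h2 p.two)
    rcases hs w (h1 ▸ AddSubgroup.mem_top w) a aB with k | k
    · exact tp.1 (by rw [k, smul_zero])
    · exact ts ta q.two q.F3 e27 x0F x03 (k ▸ tp) reg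
  refine ⟨i2.trans hB.symm, ?_⟩
  by_contra no
  obtain ⟨w0, hw0⟩ := AddSubgroup.index_eq_two_iff.1 i2
  have D : ∀ w : W, dl a w = 0 ∨ dl a w = s ∨ dl a w = dl a w0 ∨ dl a w = dl a w0 + s := fun w => by
    rcases hw0 w with k | k
    · have e : dl a w = dl a w0 + dl a (w + w0) := by
        rw [map_add, add_comm (dl a w), ← add_assoc, q.two, zero_add]
      rcases hs _ k.1 a aB with j | j
      · exact Or.inr (Or.inr (Or.inl (by rw [e, j, add_zero])))
      · exact Or.inr (Or.inr (Or.inr (by rw [e, j])))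
    · exact (hs _ k.1 a aB).imp_right Or.inl
  have key : ∀ x ∈ F, orderOf x = 3 → a * x * a⁻¹ = x⁻¹ →
      (∃ h, dl a h = s) ∧ s ∈ Wx x ∧ (∀ w, dl a w ∈ Wx x) ∧ nI a x ≤ 4 := fun x hx x3 inv => by
    have p := P x x3 inv
    have h3 : 3 ≤ nI a x := by
      by_contra h
      obtain ⟨w, tp, -⟩ := p.tp (by have := p.two; omega)
      exact no ⟨a, aB, x, hx, w, x3, inv, tp⟩
    obtain ⟨⟨h1, m1, e1⟩, ⟨h2, m2, e2⟩⟩ := full q.two (I := dl a '' (Wx x : Set W)) (s := s)
      (c := dl a w0) (by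
        rintro _ ⟨u, hu, rfl⟩ _ ⟨v, hv, rfl⟩
        exact ⟨u + v, add_mem hu hv, map_add _ _ _⟩) (by rintro _ ⟨u, -, rfl⟩; exact D u)
      (p.img ▸ h3)
    have k1 : s ∈ Wx x := e1 ▸ sub_mem (p.mem _ m1) m1
    have k2 : dl a w0 ∈ Wx x := e2 ▸ sub_mem (p.mem _ m2) m2
    refine ⟨⟨h1, e1⟩, k1, fun w => ?_, ?_⟩
    · rcases D w with k | k | k | k <;> rw [k]
      exacts [zero_mem _, k1, k2, add_mem k2 k1]
    · rw [← p.img]
      refine (Set.ncard_le_ncard (t := {0, s, dl a w0, dl a w0 + s}) ?_).trans (ncard4 _ _ _ _)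
      rintro _ ⟨w, -, rfl⟩
      exact D w
  obtain ⟨⟨h, hh⟩, -⟩ := key x0 x0F x03 inv0
  have small : Nat.card ↥(F ⊓ C1 a) ≤ 3 := by
    refine (card_le_ncard _ {s, dl a w0, dl a w0 + s} (fun e : ↥(F ⊓ C1 a) => ?_)
      (inj_smul reg inf_le_left)).trans (ncard3 _ _ _)
    have c : Commute (e : Au W) a := mem_centralizer_singleton_iff.1 e.2.2
    have e1 : (e : Au W) • s = dl a ((e : Au W) • h) := by rw [← hh, dl_comm_of_commute c]
    rcases D ((e : Au W) • h) with k | k
    · exact absurd ((smul_eq_zero_iff_eq _).1 (e1.trans k)) s0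
    · rw [← e1] at k
      exact k
  rcases l3 (Au W) F a q.F3 e27 (q.nr aB) aa small with
    ⟨x, hx, cx, x3, inv⟩ | ⟨x, hx, y, hy, x3, y3, c, nm, inv, inv'⟩
  · obtain ⟨-, k1, -, k4⟩ := key x hx x3 inv
    obtain ⟨E, hE, -, hc⟩ := e27
    have h1 := card_le_ncard _ (Wx x : Set W) (fun e : E =>
      wx_smul (Commute.symm (mem_centralizer_iff.1 cx _ (hE e.2))) k1) (inj_smul reg hE)
    have h2 := (P x x3 inv).sq
    rw [← Nat.card_coe_set_eq] at h1
    have h3 : nI a x * nI a x ≤ 4 * 4 := Nat.mul_le_mul k4 k4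
    have h4 : Nat.card (Wx x) ≤ 16 := h2.trans h3
    have h5 : 27 ≤ Nat.card (Wx x) := hc.trans h1
    omega
  · have p := P x x3 inv
    have x3' : x ^ 3 = 1 := x3 ▸ pow_orderOf_eq_one x
    have y3' : y ^ 3 = 1 := y3 ▸ pow_orderOf_eq_one y
    have fin : ∀ e ∈ F, orderOf e = 3 → a * e * a⁻¹ = e⁻¹ → Commute e x → ∀ u ∈ Wx x, e • u = u →
        u = 0 := fun e he e3 ie ce u hu eu => by
      obtain ⟨-, -, k3, -⟩ := key e he e3 ie
      have fa : ∀ v : W, e • v = v → a • v = v := fun v ev => by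
        refine dl_eq_zero.1 ((P e e3 ie).fpf _ (k3 v) ?_)
        have e1 : e * a = a * e⁻¹ := by
          rw [← ie]
          calc e * a = (a * a) * e * a * (a * a)⁻¹ := by rw [aa]; group
            _ = a * (a * e * a⁻¹) * (a * a) * (a * a)⁻¹ := by group
            _ = a * (a * e * a⁻¹) := by group
        rw [dl_apply, smul_sub, ← mul_smul, e1, mul_smul, inv_smul_eq_iff.2 ev.symm, ev]
      have h1 := fa u eu
      have h2 := fa (x • u) (by rw [← mul_smul, ce.eq, mul_smul, eu])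
      have h3 : x⁻¹ • u = x • u := by
        rw [← inv, mul_smul, mul_smul, inv_smul_eq_iff.2 h1.symm, h2]
      refine p.fpf u hu ?_
      have h4 : x • x • u = u := by rw [← h3, smul_inv_smul]
      calc x • u = x • x • x • u := by rw [h4]
        _ = u := by rw [← mul_smul, ← mul_smul, ← pow_three', x3', one_smul]
    obtain ⟨-, k1, -, -⟩ := key x hx x3 inv
    obtain ⟨u, hu, u0, k | k | k⟩ := eig q.two x3' y3' c p.fpf k1 s0
    · exact u0 (fin y hy y3 inv' c.symm u hu k)
    · refine u0 (fin _ (mul_mem hx hy) (orderOf_eq_prime (by rw [c.mul_pow, x3', y3', one_mul])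
        fun e => nm (by rw [eq_inv_of_mul_eq_one_right e]; exact inv_mem (mem_zpowers x))) ?_
        ((Commute.refl x).mul_left c.symm) u hu k)
      calc a * (x * y) * a⁻¹ = a * x * a⁻¹ * (a * y * a⁻¹) := by group
        _ = (x * y)⁻¹ := by rw [inv, inv', c.eq, mul_inv_rev]
    · refine u0 (fin _ (mul_mem hx (inv_mem hy)) (orderOf_eq_prime (by
        rw [c.inv_right.mul_pow, inv_pow, x3', y3', inv_one, one_mul])
        fun e => nm (by rw [← mul_inv_eq_one.1 e]; exact mem_zpowers x)) ?_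
        ((Commute.refl x).mul_left c.inv_right.symm) u hu k)
      calc a * (x * y⁻¹) * a⁻¹ = a * x * a⁻¹ * (a * y * a⁻¹)⁻¹ := by group
        _ = (x * y⁻¹)⁻¹ := by rw [inv, inv', c.inv_right.eq, mul_inv_rev]

end H6.DpvQ1
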