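/- STD-F2 tower: `Q` is normal in `C(z)` (after H46/RMax2, with faithfulness only for `2`-elements). -/
import Cfsg.Agent.H6.BSpec
import Cfsg.Agent.H46.RMax2

set_option autoImplicit false
set_option linter.unusedSectionVars false
open Cfsg H78 H79 H46.R H46.R.Geo

namespace H6.B
universe u
variable {G : Type u} [Group G] [Finite G]
variable {V : Type} [AddCommGroup V] [Finite V] {X : Geo V} {m : ℕ} {z : G} {Q : Subgroup G} {e : G → V}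

theorem ex_four (E : X.Ex z Q e) {x : G} (a : x ∈ Q) : x * x * (x * x) = 1 := by
  rcases E.sq_or a with o | o <;> simp [o, E.zz]

namespace XW
variable (h : XW X z Q e)
include h
theorem cj {k : G} (a : k * z = z * k) : XW X z (cjS Q k) fun x => e (k⁻¹ * x * k) := by
  have M := mem_conj_iff Q
  have zk : k⁻¹ * z * k = z := by rw [mul_assoc, ← a, inv_mul_cancel_left]
  have ml : ∀ x y, k⁻¹ * (x * y) * k = k⁻¹ * x * k * (k⁻¹ * y * k) := fun x y => by group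
  have ij : ∀ {x y}, k⁻¹ * x * k = k⁻¹ * y * k ↔ x = y := by simp
  have c : ∀ d x, k⁻¹ * (d * x * d⁻¹) * k = k⁻¹ * d * k * (k⁻¹ * x * k) * (k⁻¹ * d * k)⁻¹ := fun d x => by group
  have dz : ∀ {d}, d * z = z * d → k⁻¹ * d * k * z = z * (k⁻¹ * d * k) := fun b => cm_mul (cm_mul (cm_inv a) b) a
  have on : ∀ x ∈ Q, ∃ y ∈ cjS Q k, k⁻¹ * y * k = x := fun x b => ⟨_, ⟨x, b, rfl⟩, by simp [mul_assoc]⟩
  have o1 : k⁻¹ * 1 * k = 1 := by simp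
  refine ⟨⟨h.ex.base, (M _ _).2 (by rw [zk]; exact h.ex.z_mem), h.ex.z_ne, fun x b => ij.1 ?_, fun x b y b' => ?_,
    fun x b => ?_, fun x b => ?_⟩, fun v => ?_, fun d b n => ?_, fun d d4 b n => (M _ _).2 ?_,
    fun d b x x1 x2 x3 y y1 => (M _ _).2 ?_⟩
  · rw [ml, ml, zk, h.ex.le _ ((M _ _).1 b)]
  · rw [ml, h.ex.mul _ ((M _ _).1 b) _ ((M _ _).1 b')]
  · rw [h.ex.ker _ ((M _ _).1 b), ← @ij x 1, ← @ij x z, zk, o1]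
  · rw [← h.ex.sq _ ((M _ _).1 b), ← ml, ← @ij _ 1, o1]
  · obtain ⟨x, b, rfl⟩ := h.onto v
    obtain ⟨y, b', rfl⟩ := on x b
    exact ⟨y, b', rfl⟩
  · obtain ⟨g, g1, g2⟩ := h.act _ (dz b) fun x b' => by
      obtain ⟨y, b'', rfl⟩ := on x b'
      exact c d y ▸ (M _ _).1 (n y b'')
    exact ⟨g, g1, fun x b' => by rw [c, g2 _ ((M _ _).1 b')]⟩
  · refine h.faith _ (by rw [← ml, ← ml, d4, o1]) (dz b) fun x b' => ?_
    obtain ⟨y, b'', rfl⟩ := on x b'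
    exact c d y ▸ ⟨(M _ _).1 (n y b'').1, (n y b'').2⟩
  · exact c d y ▸ h.uniq _ (dz b) _ ((M _ _).1 x1) x2 (c d x ▸ (M _ _).1 x3) _ ((M _ _).1 y1)
theorem sig_Γ (k : NQ z Q) : h.ex.sig h.onto k ∈ X.Γ := by
  obtain ⟨g, g1, g2⟩ := h.act k k.2.1 k.2.2
  rwa [show h.ex.sig h.onto k = g from Equiv.ext fun v => by
    obtain ⟨x, a, rfl⟩ := h.onto v
    rw [h.ex.sig_c _ _ a, g2 x a]]
theorem sig_ker (k : NQ z Q) (k4 : k.1 * k * (k * k) = 1) : h.ex.sig h.onto k = 1 ↔ k.1 ∈ Q :=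
  ⟨fun o => h.faith k k4 k.2.1 fun x a => ⟨k.2.2 x a, by rw [← h.ex.sig_c h.onto k a, o]; rfl⟩, h.ex.sig_Q _⟩
theorem ecm (k : NQ z Q) {x : G} (a : x ∈ Q) : e (k * x * (k : G)⁻¹ * x⁻¹) = h.ex.sig h.onto k (e x) + e x := by
  rw [h.ex.mul _ (k.2.2 x a) _ (inv_mem a), h.ex.cinv a, h.ex.sig_c _ _ a]
theorem mem_img {T : Subgroup G} (a : z ∈ T) {x : G} (b : x ∈ Q) : e x ∈ h.ex.img T ↔ x ∈ T :=
  ⟨fun ⟨y, c, d⟩ => by
    rcases h.ex.eq_or b c.1 d.symm with rfl | rfl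
    exacts [c.2, mul_mem c.2 a], fun c => ⟨x, ⟨b, c⟩, rfl⟩⟩
end XW

/-- the conjugates of `Q` over a maximal intersection `B` -/
structure Fam (X : Geo V) (z : G) (F : Set (Subgroup G)) (B : Subgroup G) : Prop where
  xm : ∀ Q ∈ F, ∃ e, XW X z Q e
  le : ∀ Q ∈ F, B ≤ Q
  cj : ∀ Q ∈ F, ∀ k ∈ NQ z B, cjS Q k ∈ F
  tr : ∀ Q ∈ F, ∀ Q' ∈ F, ∃ k, k * z = z * k ∧ Q' = cjS Q k
  z_mem : z ∈ B
  mx : ∀ Q ∈ F, ∀ Q' ∈ F, Q ≠ Q' → Q ⊓ Q' = B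

namespace Fam
variable {F : Set (Subgroup G)} {B Q' : Subgroup G} (h : Fam X z F B)
include h

theorem w2 (a : Q ∈ F) {k x : G} (b : k ∈ NQ z B) (x1 : x ∈ Q) (x2 : x ∉ B) (x3 : k * x * k⁻¹ ∈ Q) :
    k ∈ NQ z Q := ⟨b.1, cjS_eq.1 (not_not.1 fun n => x2 (by
  simpa [mul_assoc] using (inv_mem b).2 _ (h.mx _ (h.cj Q a k b) Q a n ▸ ⟨⟨x, x1, rfl⟩, x3⟩ : k * x * k⁻¹ ∈ B)))⟩
theorem cj_or (a : Q ∈ F) {x y : G} (x1 : x ∈ Q) (y1 : y ∈ B) : x * y * x⁻¹ = y ∨ x * y * x⁻¹ = y * z :=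
  let ⟨_, M⟩ := h.xm Q a; M.ex.cj_or x1 (h.le Q a y1)
theorem le_N (a : Q ∈ F) : Q ≤ NQ z B := fun x x1 =>
  let ⟨_, M⟩ := h.xm Q a
  ⟨M.ex.le x x1, fun y y1 => by
    rcases h.cj_or a x1 y1 with o | o <;> rw [o]
    exacts [y1, mul_mem y1 h.z_mem]⟩
theorem sq (a : Q ∈ F) {x : G} (x1 : x ∈ Q) : x * x ∈ B := by
  obtain ⟨_, M⟩ := h.xm Q a
  rcases M.ex.sq_or x1 with o | o <;> rw [o]
  exacts [one_mem _, h.z_mem]
theorem card (a : Q ∈ F) (b : Q' ∈ F) : Nat.card Q' = Nat.card Q :=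
  let ⟨k, _, o⟩ := h.tr Q a Q' b; o ▸ card_map_conj Q k
theorem free (a : Q ∈ F) (b : Q' ∈ F) (n : Q ≠ Q') (M : XW X z Q e) : ∀ v ∈ X.W0, v ∉ M.ex.img B := by
  rintro _ w ⟨x, x1, rfl⟩
  obtain ⟨k, k1, rfl⟩ := h.tr Q a Q' b
  refine n (cjS_eq.2 ?_).symm
  simpa using nrm_inv (M.uniq k⁻¹ (cm_inv k1) x x1.1 w (by simpa using (mem_conj_iff _ _ _).1 (h.le _ b x1.2)))

theorem qd (a : Q ∈ F) (b : Q' ∈ F) (n : Q ≠ Q') (M : XW X z Q e) :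
    X.QD ((Q'.subgroupOf (NQ z Q)).map (M.ex.sig M.onto)) (M.ex.img B) (M.ex.img (NQ z Q')) ∧
    2 * (Nat.card ((Q'.subgroupOf (NQ z Q)).map (M.ex.sig M.onto)) * Nat.card (M.ex.img B)) =
      Nat.card (Q' ⊓ NQ z Q : Subgroup G) := by
  obtain ⟨e', M'⟩ := h.xm Q' b
  have zN : z ∈ NQ z Q' := M'.ex.Q_N M'.ex.z_mem
  have i : Q ⊓ Q' = B := h.mx Q a Q' b n
  have cQ : ∀ (y : NQ z Q) x, x ∈ Q → y * x * (y : G)⁻¹ * x⁻¹ ∈ Q := fun y x x1 => mul_mem (y.2.2 x x1) (inv_mem x1)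
  refine ⟨⟨?_, fun _ ⟨x, x1, o⟩ => ⟨x, ⟨x1.1, M'.ex.Q_N (h.le _ b x1.2)⟩, o⟩, ?_, ?_, ?_, ?_, ?_⟩, ?_⟩
  · rintro _ ⟨y, -, rfl⟩; exact M.sig_Γ y
  · rintro _ ⟨y, (y1 : y.1 ∈ Q'), rfl⟩
    rw [← map_mul]
    exact M.ex.sig_Q _ (h.le _ a (h.sq b y1))
  · rintro _ ⟨y, (y1 : y.1 ∈ Q'), rfl⟩ _ ⟨x, x1, rfl⟩
    rw [M.ex.sig_c _ _ x1.1]
    rcases h.cj_or b y1 x1.2 with o | o <;> rw [o]
    exact M.ex.cmz x1.1
  · rintro _ ⟨y, (y1 : y.1 ∈ Q'), rfl⟩ v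
    obtain ⟨x, x1, rfl⟩ := M.onto v
    by_cases o : y.1 ∈ B
    · rw [M.ex.sig_Q _ (h.le _ a o)]
      exact M.ex.base.two (e x) ▸ zero_mem _
    rw [← M.ecm y x1, M.mem_img zN (cQ y x x1)]
    refine h.w2 b (h.le_N a (cQ y x x1)) y1 o ?_
    have w := cQ y x x1
    have : y * (y * x * (y : G)⁻¹ * x⁻¹) * (y : G)⁻¹ * (y * x * (y : G)⁻¹ * x⁻¹)⁻¹ ∈ B := by
      rw [← M.mem_img h.z_mem (cQ y _ w), M.ecm y w, M.ecm y x1, M.ex.sig_add, ← Equiv.Perm.mul_apply, ← map_mul,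
        M.ex.sig_Q _ (k := y * y) (h.le _ a (h.sq b y1)), add_comm, Equiv.Perm.one_apply, add_comm (e x), M.ex.base.two]
      exact zero_mem _
    simpa [mul_assoc] using mul_mem (inv_mem (h.le _ b this)) y1
  · rintro _ ⟨y, (y1 : y.1 ∈ Q'), rfl⟩ _ ⟨x, x1, rfl⟩
    rw [← M.ecm y x1.1, M.mem_img h.z_mem (cQ y x x1.1), ← i]
    exact ⟨cQ y x x1.1, by simpa [mul_assoc] using mul_mem y1 (x1.2.2 _ (inv_mem y1))⟩
  · rintro _ ⟨y, (y1 : y.1 ∈ Q'), rfl⟩ o v k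
    obtain ⟨x, x1, rfl⟩ := M.onto v
    rw [← M.ecm y x1, M.mem_img h.z_mem (cQ y x x1)] at k
    refine (M.mem_img zN x1).2 (h.w2 b (h.le_N a x1) y1 (fun o' => o (M.ex.sig_Q _ (h.le _ a o'))) ?_)
    simpa [mul_assoc] using mul_mem (inv_mem (h.le _ b k)) y1
  · have c1 := card_map_mul_card_inf_ker (M.ex.sig M.onto) (Q'.subgroupOf (NQ z Q))
    rw [show Q'.subgroupOf (NQ z Q) ⊓ (M.ex.sig M.onto).ker = B.subgroupOf (NQ z Q) from Subgroup.ext fun y => by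
      rw [← i, Subgroup.mem_inf, MonoidHom.mem_ker]
      exact ⟨fun o => ⟨(M.sig_ker y (ex_four M'.ex o.1)).1 o.2, o.1⟩, fun o => ⟨o.2, M.ex.sig_Q _ o.1⟩⟩,
      Nat.card_congr (Subgroup.subgroupOfEquivOfLe fun x o => M.ex.Q_N (h.le _ a o)).toEquiv,
      ← inf_eq_right.2 (h.le _ a), M.ex.card_img h.z_mem] at c1
    rw [inf_comm, card_inf_eq_subgroupOf, ← c1, mul_left_comm]

theorem card_lt (a : Q ∈ F) (b : Q' ∈ F) (n : Q ≠ Q') (k : ¬ Q ≤ NQ z Q') :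
    Nat.card (Q' ⊓ NQ z Q : Subgroup G) ≤ Nat.card (Q ⊓ NQ z Q' : Subgroup G) := by
  obtain ⟨e, M⟩ := h.xm Q a
  obtain ⟨e', M'⟩ := h.xm Q' b
  obtain ⟨x, x1, x2⟩ := SetLike.not_le_iff_exists.1 k
  have zN : z ∈ NQ z Q' := M'.ex.Q_N M'.ex.z_mem
  rw [← (h.qd a b n M).2, M.ex.card_img zN]
  exact Nat.mul_le_mul_left _ ((h.qd a b n M).1.card_le M.ex.base (mt (M.mem_img zN x1).1 x2))

theorem mutual' (fc : X.FC m) (a : Q ∈ F) (b : Q' ∈ F) (n : Q ≠ Q') (k : Q ≤ NQ z Q') (k' : Q' ≤ NQ z Q) :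
    False := by
  obtain ⟨e, M⟩ := h.xm Q a
  obtain ⟨e', M'⟩ := h.xm Q' b
  have b0 := M.ex.base
  obtain ⟨D, -⟩ := h.qd a b n M
  obtain ⟨x, x1, x2⟩ := M.onto X.τ
  have xU : X.τ ∈ M.ex.img (NQ z Q') := ⟨x, ⟨x1, k x1⟩, x2⟩
  have xB : x ∉ B := fun o => h.free a b n M _ τ_W0 ⟨x, ⟨x1, o⟩, x2⟩
  let Y : AddSubgroup V :=
    { carrier := {w | ∃ y ∈ (Q'.subgroupOf (NQ z Q)).map (M.ex.sig M.onto), y X.τ + X.τ = w}
      zero_mem' := ⟨1, one_mem _, b0.two _⟩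
      add_mem' := by
        rintro _ _ ⟨y, y1, rfl⟩ ⟨y', y2, rfl⟩
        refine ⟨y * y', mul_mem y1 y2, ?_⟩
        rw [← D.fix y y1 _ (D.toB y' y2 _ xU), b0.add _ (D.le y1), Equiv.Perm.mul_apply, add_comm (y X.τ),
          add_comm (y _) (y _), add_assoc, b0.add_add', add_comm]
      neg_mem' := fun o => (b0.neg _).symm ▸ o }
  have c1 := fc.g8 X.τ Y (by
    rintro _ ⟨y, y1, rfl⟩ _ ⟨y', y2, rfl⟩
    exact D.bB b0 y2 _ (D.toB y y1 _ xU)) (by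
    rintro _ ⟨y, y1, rfl⟩
    rw [add_comm, b0.add_add]; exact W0_smul (D.le y1) τ_W0)
  have c2 := fc.g4 _ (M'.sig_Γ ⟨x, k x1⟩) (by
    rw [← map_mul]; exact M'.ex.sig_Q _ (h.le _ b (h.sq a x1)))
    fun o => xB (h.mx Q a Q' b n ▸ ⟨x1, (M'.sig_ker _ (ex_four M.ex x1)).1 o⟩)
  have cB : ∀ y ∈ Q', y * x * y⁻¹ * x⁻¹ ∈ Q ⊓ Q' := fun y y1 => ⟨Q.mul_mem ((k' y1).2 x x1) (Q.inv_mem x1),
    by simpa [mul_assoc] using Q'.mul_mem y1 ((k x1).2 _ (Q'.inv_mem y1))⟩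
  have : ∀ w : cm (M'.ex.sig M'.onto ⟨x, k x1⟩), ∃ y ∈ Q', e' (y * x * y⁻¹ * x⁻¹) = w := fun ⟨_, v, rfl⟩ => by
    obtain ⟨y, y1, rfl⟩ := M'.onto v
    refine ⟨y⁻¹, inv_mem y1, show _ = M'.ex.sig M'.onto ⟨x, k x1⟩ (e' y) + e' y from ?_⟩
    rw [show y⁻¹ * x * y⁻¹⁻¹ * x⁻¹ = y⁻¹ * (x * y * x⁻¹) by group, M'.ex.mul _ (inv_mem y1) _ ((k x1).2 y y1),
      M'.ex.cinv y1, M'.ex.sig_c _ _ y1, add_comm]
  choose f f1 f2 using this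
  refine (c2.trans (Nat.card_le_card_of_injective (fun w => (⟨e (f w * x * (f w)⁻¹ * x⁻¹), _,
    ⟨⟨f w, k' (f1 w)⟩, f1 w, rfl⟩, x2 ▸ (M.ecm ⟨f w, k' (f1 w)⟩ x1).symm⟩ : Y)) fun w w' o => ?_)).not_gt c1
  refine Subtype.ext ((f2 w).symm.trans (Eq.trans ?_ (f2 w')))
  rcases M.ex.eq_or (cB _ (f1 w)).1 (cB _ (f1 w')).1 (congrArg Subtype.val o) with o | o <;> rw [o]
  exact M'.ex.cmz (cB _ (f1 w')).2

theorem not_adj (fa : X.FA) (fc : X.FC m) (a : Q ∈ F) (b : Q' ∈ F) (n : Q ≠ Q') {y : G} (y1 : y ∈ Q')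
    (y2 : y ∈ NQ z Q) : y ∈ B := by
  by_contra y3
  have lt : ∀ {S T : Subgroup G}, ¬ S ≤ T → Nat.card (S ⊓ T : Subgroup G) < Nat.card S := fun k =>
    lt_of_not_ge fun o => k (inf_eq_left.1 (Subgroup.eq_of_le_of_card_ge inf_le_left o))
  have c := h.card a b
  by_cases k : Q ≤ NQ z Q' <;> by_cases k' : Q' ≤ NQ z Q
  · exact h.mutual' fc a b n k k'
  · have := h.card_lt b a n.symm k'
    rw [inf_eq_left.2 k] at this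
    exact (lt k').not_ge (c.le.trans this)
  · have := h.card_lt a b n k
    rw [inf_eq_left.2 k'] at this
    exact (lt k).not_ge (c.ge.trans this)
  obtain ⟨e, M⟩ := h.xm Q a
  obtain ⟨e', M'⟩ := h.xm Q' b
  have zN : z ∈ NQ z Q' := M'.ex.Q_N M'.ex.z_mem
  obtain ⟨D, cD⟩ := h.qd a b n M
  rw [(h.card_lt a b n k).antisymm (h.card_lt b a n.symm k'), M.ex.card_img zN] at cD
  exact D.fin M.ex.base fa fc (fun o => k fun x x1 => (M.mem_img zN x1).1 (o ▸ trivial))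
    (fun o => y3 (h.mx Q a Q' b n ▸ ⟨(M.sig_ker ⟨y, y2⟩ (ex_four M'.ex y1)).1 (Subgroup.mem_bot.1 (o ▸ ⟨⟨y, y2⟩, y1, rfl⟩)), y1⟩))
    (h.free a b n M) (by omega)

theorem odd (fa : X.FA) (fc : X.FC m) (a : Q ∈ F) (b : Q' ∈ F) (n : Q ≠ Q') {x y : G} (x1 : x ∈ Q)
    (x2 : x ∉ B) (y1 : y ∈ Q') (y2 : y ∉ B) : ∃ j : ℕ, (x * y) ^ (2 * j + 1) ∈ B ∧
      ∃ k ∈ NQ z B, ∃ β ∈ B, x = k * y * k⁻¹ * β := by
  haveI : (B.subgroupOf (NQ z B)).Normal := ⟨fun u o g => g.2.2 u o⟩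
  let π := QuotientGroup.mk' (B.subgroupOf (NQ z B))
  have π1 : ∀ u, π u = 1 ↔ u.1 ∈ B := fun u => QuotientGroup.eq_one_iff u
  have π2 : ∀ {u v}, π u = π v → ∃ β ∈ B, u.1 = v.1 * β := fun {u v} o =>
    ⟨_, (π1 (v⁻¹ * u)).1 (by rw [map_mul, map_inv, o, inv_mul_cancel]), by simp⟩
  let x' : NQ z B := ⟨x, h.le_N a x1⟩
  let y' : NQ z B := ⟨y, h.le_N b y1⟩
  rcases dihedral (a := π x') (b := π y') ((π1 (x' * x')).2 (h.sq a x1)) ((π1 (y' * y')).2 (h.sq b y1)) with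
    ⟨j, j1, j2⟩ | ⟨j, k, k1, k2, k3, k4⟩ <;> simp only [← map_mul, ← map_pow, ← map_inv] at *
  · obtain ⟨β, b1, b2⟩ := π2 j2
    exact ⟨j, (π1 _).1 j1, _, (((x' * y') ^ j)⁻¹).2, β, b1, by simpa using b2⟩
  generalize (x' * y') ^ k = w at *
  generalize (x' * y') ^ j = u at *
  have w2 : ∀ {S}, S ∈ F → ∀ v : NQ z B, v.1 ∈ S → v.1 ∉ B → π (w * v) = π (v * w) → w.1 ∈ NQ z S :=
    fun {S} s v v1 v2 o => by
      obtain ⟨β, b1, b2⟩ := π2 (u := w * v * w⁻¹) (v := v) (by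
        rw [map_mul, o, ← map_mul, mul_inv_cancel_right])
      exact h.w2 s w.2 v1 v2 (b2 ▸ mul_mem v1 (h.le _ s b1) :)
  have wx := w2 a x' x1 x2 k2
  obtain ⟨S, s, v, v1, v2, o⟩ : ∃ S ∈ F, ∃ v : NQ z B, v.1 ∈ S ∧ v.1 ∉ B ∧ π (x' * w) = π (u⁻¹ * v * u) :=
    k4.elim (fun o => ⟨Q, a, x', x1, x2, o⟩) fun o => ⟨Q', b, y', y1, y2, o⟩
  obtain ⟨β, b1, b2⟩ := π2 o
  have s' := h.cj S s _ (u⁻¹).2
  replace b2 : x * w = (u : G)⁻¹ * v * u * β := b2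
  have m1 : x * w ∈ cjS S (u⁻¹ : NQ z B) := b2 ▸ Subgroup.mul_mem _ ⟨v, v1, by simp⟩ (h.le _ s' b1)
  have m2 : x * w ∉ B := fun o => v2 (by
    have := u.2.2 _ ((Subgroup.mul_mem_cancel_right _ b1).1 (b2 ▸ o :))
    simpa [mul_assoc] using this)
  obtain ⟨_, M⟩ := h.xm Q a
  have m3 : x * w ∈ Q := (not_not.1 fun o => m2 (h.not_adj fa fc a s' o m1 (mul_mem (M.ex.Q_N x1) wx))) ▸ m1
  exact absurd ((π1 w).2 (h.not_adj fa fc b a n.symm ((Subgroup.mul_mem_cancel_left _ x1).1 m3)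
    (w2 b y' y1 y2 k3))) k1

theorem main (fa : X.FA) (fc : X.FC m) (a : Q ∈ F) (b : Q' ∈ F) : Q = Q' := by
  classical
  by_contra n
  obtain ⟨e, M⟩ := h.xm Q a
  have b0 := M.ex.base
  have c4 : 4 * Nat.card (M.ex.img B) < Nat.card V := lt_of_not_ge fun o =>
    let ⟨v, v1, v2⟩ := fa.g7 _ o; h.free a b n M v v1 v2
  obtain ⟨y, y1, y2⟩ : ∃ y ∈ Q', y ∉ B := SetLike.not_le_iff_exists.1 fun o =>
    n (Subgroup.eq_of_le_of_card_ge (o.trans (h.le _ a)) (h.card a b).ge).symm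
  let I : Subgroup G :=
    { carrier := {y | ∃ β ∈ B, ∀ x ∈ B, y * x * y⁻¹ = β * x * β⁻¹}
      one_mem' := ⟨1, one_mem _, fun _ _ => rfl⟩
      mul_mem' := fun ⟨β, b1, b2⟩ ⟨β', b3, b4⟩ => ⟨β * β', mul_mem b1 b3, fun x o => by
        rw [← cj_cj, b4 x o, b2 _ (mul_mem (mul_mem b3 o) (inv_mem b3)), cj_cj]⟩
      inv_mem' := fun {y} ⟨β, b1, b2⟩ => ⟨β⁻¹, inv_mem b1, fun x o => conj_inj (a := y) (by
        rw [cj_inv', b2 _ (mul_mem (mul_mem (inv_mem b1) o) (inv_mem (inv_mem b1))), cj_inv'])⟩ }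
  have i1 : ∀ x ∈ Q, x ∉ B → x * y ∈ I := fun x x1 x2 => by
    obtain ⟨j, j1, -⟩ := h.odd fa fc a b n x1 x2 y1 y2
    have o1 : ∀ u ∈ B, x * y * u * (x * y)⁻¹ = u ∨ x * y * u * (x * y)⁻¹ = u * z := fun u o => by
      rw [← cj_cj]
      rcases h.cj_or b y1 o with p | p <;> rw [p]
      · exact h.cj_or a x1 o
      · refine (h.cj_or a x1 (mul_mem o h.z_mem)).symm.imp (fun p => ?_) id
        rw [p, mul_assoc, M.ex.zz, mul_one]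
    have o2 : (x * y) ^ 2 ∈ I := ⟨1, one_mem _, fun u o => by
      rw [pow_two, ← cj_cj]
      rcases o1 u o with p | p
      · rw [p, p]; simp
      · rw [p, ← conj_mul, p, cj_fix.2 (cm_mul (h.le_N a x1).1 (h.le_N b y1).1), mul_assoc, M.ex.zz]; simp⟩
    have o3 : (x * y) ^ (2 * j + 1) ∈ I := ⟨_, j1, fun _ _ => rfl⟩
    rwa [pow_succ, pow_mul, Subgroup.mul_mem_cancel_left _ (pow_mem o2 j)] at o3
  have dec : ∀ v, ∃ β ∈ M.ex.img B, v + β ∈ X.perp (M.ex.img B) := fun v => by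
    obtain ⟨x, x1, rfl⟩ := M.onto v
    obtain ⟨β, b1, b2⟩ : x ∈ I := by
      by_cases o : x ∈ B
      · exact ⟨x, o, fun _ _ => rfl⟩
      obtain ⟨w, w1, w2⟩ : ∃ w, w ∉ M.ex.img B ∧ e x + w ∉ M.ex.img B := by
        by_contra k
        have := Nat.card_le_card_of_surjective (fun p : M.ex.img B ⊕ M.ex.img B => p.elim (·.1) (e x + ·.1))
          fun w => if o : w ∈ M.ex.img B then ⟨.inl ⟨w, o⟩, rfl⟩ else
            ⟨.inr ⟨_, not_not.1 fun o' => k ⟨w, o, o'⟩⟩, b0.add_add' _ _⟩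
        rw [Nat.card_sum] at this
        omega
      obtain ⟨w, w3, rfl⟩ := M.onto w
      rw [← M.ex.mul x x1 w w3, M.mem_img h.z_mem (mul_mem x1 w3)] at w2
      rw [M.mem_img h.z_mem w3] at w1
      simpa using mul_mem (i1 _ (mul_mem x1 w3) w2) (inv_mem (i1 w w3 w1))
    refine ⟨_, ⟨β, ⟨h.le _ a b1, b1⟩, rfl⟩, ?_⟩
    rintro _ ⟨u, u1, rfl⟩
    have := b2 u u1.2
    rw [M.ex.cj_eq x1 u1.1, M.ex.cj_eq (h.le _ a b1) u1.1] at this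
    rw [map_add, AddMonoidHom.add_apply, M.ex.zp_inj (mul_left_cancel this), z2]
  have rad : ∀ u ∈ X.perp (M.ex.img B), (∀ w ∈ X.perp (M.ex.img B), X.b u w = 0) → u = 0 := fun u o p =>
    b0.nd u fun v => by
      obtain ⟨β, b1, b2⟩ := dec v
      simpa [o β b1] using p _ b2
  have dj : ∀ u ∈ X.perp (M.ex.img B), u ∈ M.ex.img B → u = 0 := fun u o p =>
    rad u o fun w k => (b0.comm _ _).trans (k u p)
  have qc : ∀ u ∈ X.perp (M.ex.img B), u ≠ 0 → ∀ w ∈ X.perp (M.ex.img B), w ≠ 0 → X.q u = 0 → X.q w = 0 := by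
    intro u u1 u2 w w1 w2 o
    obtain ⟨x, x1, rfl⟩ := M.onto u
    obtain ⟨x', x2, rfl⟩ := M.onto w
    have cc : ∀ x ∈ Q, e x ∈ X.perp (M.ex.img B) ↔ ∀ v ∈ B, x * v * x⁻¹ = v := fun x x1 =>
      ⟨fun p v k => cj_fix.2 ((M.ex.comm_iff x1 (h.le _ a k)).2 (p _ ⟨v, ⟨h.le _ a k, k⟩, rfl⟩)), fun p => by
        rintro _ ⟨v, k, rfl⟩; exact (M.ex.comm_iff x1 k.1).1 (cj_fix.1 (p v k.2))⟩
    obtain ⟨-, -, k, k1, β, b1, e1⟩ := h.odd fa fc a b n x1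
      (fun p => u2 (dj _ u1 ((M.mem_img h.z_mem x1).2 p))) y1 y2
    obtain ⟨-, -, l, l1, γ, b2, e2⟩ := h.odd fa fc a b n x2
      (fun p => w2 (dj _ w1 ((M.mem_img h.z_mem x2).2 p))) y1 y2
    have lk := mul_mem l1 (inv_mem k1)
    have d1 := mul_mem (lk.2 _ (inv_mem b1)) b2
    have e3 : x' = l * k⁻¹ * x * (l * k⁻¹)⁻¹ * (l * k⁻¹ * β⁻¹ * (l * k⁻¹)⁻¹ * γ) := by rw [e1, e2]; group
    generalize l * k⁻¹ * β⁻¹ * (l * k⁻¹)⁻¹ * γ = δ at *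
    generalize l * k⁻¹ = r at *
    have dQ := h.le _ a d1
    have d0 := (M.ex.ker _ dQ).1 (dj _ ((cc _ dQ).2 fun v p => conj_inj (a := r * x * r⁻¹) (by
      rw [cj_cj, ← e3, (cc _ x2).1 w1 v p, show r * x * r⁻¹ * v * (r * x * r⁻¹)⁻¹ =
        r * (x * (r⁻¹ * v * r⁻¹⁻¹) * x⁻¹) * r⁻¹ by group, (cc _ x1).1 u1 _ ((inv_mem lk).2 v p), cj_inv'])) ((M.mem_img h.z_mem dQ).2 d1))
    have xx : r * x * r⁻¹ * (r * x * r⁻¹) = 1 := by rw [conj_mul, (M.ex.sq x x1).2 o]; simp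
    rw [← M.ex.sq x' x2]
    rcases d0 with rfl | rfl
    · rw [e3, mul_one, xx]
    · have := M.ex.le x' x2
      rw [eq_mul_inv_iff_mul_eq.2 e3.symm] at xx
      calc x' * x' = x' * δ⁻¹ * (x' * δ⁻¹) * (δ * δ) := by
            rw [mul_assoc x', ← mul_assoc _ x', cm_inv this.symm]; group
        _ = 1 := by rw [xx, M.ex.zz, mul_one]
  have c5 : 4 < Nat.card (X.perp (M.ex.img B)) := by
    rw [← b0.card_perp (M.ex.img B), mul_comm] at c4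
    exact Nat.lt_of_mul_lt_mul_left c4
  have ex : ∀ p q r : V, ∃ u ∈ X.perp (M.ex.img B), u ≠ 0 ∧ u ≠ p ∧ u ≠ q ∧ u ≠ r := fun p q r => by
    by_contra k
    have : (X.perp (M.ex.img B) : Set V) ⊆ {0, p, q, r} := fun u o => by
      by_contra k'
      exact k ⟨u, o, by simpa [not_or] using k'⟩
    exact c5.not_ge ((Set.ncard_le_ncard this).trans ((Set.ncard_insert_le _ _).trans (Nat.succ_le_succ
      ((Set.ncard_insert_le _ _).trans (Nat.succ_le_succ ((Set.ncard_insert_le _ _).trans (by simp)))))))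
  obtain ⟨u, u1, u2, -⟩ := ex 0 0 0
  by_cases o : ∃ w ∈ X.perp (M.ex.img B), w ≠ 0 ∧ X.q w = 0
  · obtain ⟨w, w1, w2, w3⟩ := o
    have q0 : ∀ v ∈ X.perp (M.ex.img B), X.q v = 0 := fun v p =>
      if k : v = 0 then k ▸ b0.q0 else qc w w1 w2 v p k w3
    exact u2 (rad u u1 fun v p => by simpa [b0.q_add, q0 u u1, q0 v p] using q0 _ (add_mem u1 p))
  · have q1 : ∀ v ∈ X.perp (M.ex.img B), v ≠ 0 → X.q v = 1 := fun v p k => z2_ne0.1 fun k' => o ⟨v, p, k, k'⟩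
    have b1 : ∀ v ∈ X.perp (M.ex.img B), v ≠ 0 → v ≠ u → X.b u v = 1 := fun v p k k' => by
      simpa [b0.q_add, q1 u u1 u2, q1 v p k, z2] using q1 _ (add_mem u1 p) fun o => k' (b0.add_eq0.1 o).symm
    obtain ⟨v, v1, v2, v3, -⟩ := ex u u u
    obtain ⟨w, w1, w2, w3, w4, w5⟩ := ex u v (u + v)
    have := b1 _ (add_mem v1 w1) (fun o => w4 (b0.add_eq0.1 o).symm) fun o => w5 (by rw [← o, add_comm v, b0.add_add])
    rw [map_add, b1 v v1 v2 v3, b1 w w1 w2 w3] at this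
    simp at this
end Fam

theorem jobMaxW : JobMaxW.{u} := fun _ _ _ X m b fa fc G _ _ z Q c M d a => by
  refine cjS_eq.1 (not_not.1 fun n => ?_)
  obtain ⟨⟨S, T⟩, ⟨⟨k, k1, rfl⟩, ⟨l, l1, rfl⟩, n'⟩, mx⟩ := Set.exists_max_image {p : Subgroup G × Subgroup G |
    (∃ k, k * z = z * k ∧ p.1 = cjS Q k) ∧ (∃ k, k * z = z * k ∧ p.2 = cjS Q k) ∧ p.1 ≠ p.2}
    (fun p => Nat.card (p.1 ⊓ p.2 : Subgroup G)) (Set.toFinite _)
    ⟨(cjS Q d, Q), ⟨d, a, rfl⟩, ⟨1, by simp, (cjS_eq.2 (by simp)).symm⟩, n⟩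
  have cc : ∀ k l, cjS (cjS Q k) l = cjS Q (l * k) := fun k l => Subgroup.ext fun x => by
    simp only [mem_conj_iff, mul_inv_rev, mul_assoc]
  refine n' (Fam.main (F := {S | (∃ k, k * z = z * k ∧ S = cjS Q k) ∧ cjS Q k ⊓ cjS Q l ≤ S})
    (B := cjS Q k ⊓ cjS Q l) ⟨?_, fun _ o => o.2, ?_, ?_, ⟨(M.cj k1).ex.z_mem, (M.cj l1).ex.z_mem⟩,
      fun S s T t o => (Subgroup.eq_of_le_of_card_ge (le_inf s.2 t.2) (mx (S, T) ⟨s.1, t.1, o⟩)).symm⟩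
    fa fc ⟨⟨k, k1, rfl⟩, inf_le_left⟩ ⟨⟨l, l1, rfl⟩, inf_le_right⟩)
  · rintro _ ⟨⟨r, r1, rfl⟩, -⟩; exact ⟨_, M.cj r1⟩
  · rintro _ ⟨⟨r, r1, rfl⟩, r2⟩ s s1
    exact ⟨⟨s * r, cm_mul s1.1 r1, cc r s⟩, fun x o => (mem_conj_iff _ _ _).2 (r2 (by
      simpa using (inv_mem s1).2 x o))⟩
  · rintro _ ⟨⟨r, r1, rfl⟩, -⟩ _ ⟨⟨s, s1, rfl⟩, -⟩
    exact ⟨s * r⁻¹, cm_mul s1 (cm_inv r1), by rw [cc, inv_mul_cancel_right]⟩
end H6.B
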