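/- Tower CX (row S5242): the job Sat. -/
import Cfsg.Agent.H24.CxKit0

set_option autoImplicit false

open Subgroup Cfsg H98 H24.Cx

namespace H6.Cx

universe u

variable {p : ℕ} {G W : Type u} [Group G] [Finite G] [AddCommGroup W] [DistribMulAction G W] [Finite W]

/-- the map `w ↦ a w - w` -/
def TT (W : Type u) [AddCommGroup W] [DistribMulAction G W] (a : G) : W →+ W :=
  DistribSMul.toAddMonoidHom W a - AddMonoidHom.id W

omit [Finite G] [Finite W] in
theorem TT_apply (a : G) (w : W) : TT W a w = a • w - w := rfl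

omit [Finite G] in
theorem card_map_le {A B : Subgroup G} {a : G} (ha : a ∈ A) :
    Nat.card ((Fix ⊤ B).map (TT W a)) ≤ (Fix (⊤ : AddSubgroup W) A).relIndex (Fix ⊤ B) := by
  rw [← AddSubgroup.relIndex_ker]
  exact AddSubgroup.relIndex_le_of_le_left (fun w hw => sub_eq_zero.2 (hw.2 a ha))
    AddSubgroup.FiniteIndex.index_ne_zero

theorem fix_of_card [hp : Fact p.Prime] {A : Subgroup G} (hA : IsPGroup p A) {Z : AddSubgroup W}
    (inv : ∀ g ∈ A, ∀ z ∈ Z, g • z ∈ Z) (hZ : Nat.card Z ≤ p) {z : W} (hz : z ∈ Z) {g : G} (hg : g ∈ A) :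
    g • z = z := by
  by_cases h0 : z = 0
  · rw [h0, smul_zero]
  obtain ⟨k, hk⟩ := hA.index (MulAction.stabilizer A z)
  have h1 : MulAction.orbit A z ⊂ (Z : Set W) := by
    refine ⟨?_, fun h => ?_⟩
    · rintro _ ⟨b, rfl⟩; exact inv b b.2 z hz
    · obtain ⟨b, hb⟩ := h Z.zero_mem
      exact h0 ((smul_eq_zero_iff_eq (b : G)).1 hb)
  have h2 := Set.ncard_lt_ncard h1 (Set.toFinite _)
  rw [← MulAction.index_stabilizer, hk, ← Nat.card_coe_set_eq] at h2
  have h3 : k = 0 := by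
    by_contra h
    exact absurd (h2.trans_le hZ) (not_lt.2 (Nat.le_self_pow h p))
  rw [h3, pow_zero, index_eq_one] at hk
  exact (hk.ge (mem_top (⟨g, hg⟩ : A)) : (⟨g, hg⟩ : A) • z = z)

omit [Finite G] [Finite W] in
theorem inv_map {A B : Subgroup G} (ab : A ≤ centralizer (A : Set G)) (hB : B ≤ A) {a : G} (ha : a ∈ A) :
    ∀ g ∈ A, ∀ z ∈ (Fix (⊤ : AddSubgroup W) B).map (TT W a), g • z ∈ (Fix (⊤ : AddSubgroup W) B).map (TT W a) := by
  rintro g hg _ ⟨w, hw, rfl⟩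
  refine ⟨g • w, ⟨trivial, fun b hb => ?_⟩, ?_⟩
  · rw [smul_smul, mem_centralizer_iff.1 (ab hg) b (hB hb), mul_smul, hw.2 b hb]
  · rw [TT_apply, TT_apply, smul_sub, smul_smul, smul_smul, mem_centralizer_iff.1 (ab hg) a ha]

omit [Finite G] [Finite W] in
theorem sum_eq {a : G} {w z : W} (h1 : a • w = w + z) (h2 : a • z = z) (n : ℕ) :
    a ^ n • w = w + n • z ∧ ∑ i ∈ Finset.range n, a ^ i • w = n • w + n.choose 2 • z := by
  induction n with
  | zero => simp
  | succ n ih =>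
    refine ⟨?_, ?_⟩
    · rw [pow_succ', mul_smul, ih.1, smul_add, smul_comm, h1, h2, succ_nsmul]; abel
    · rw [Finset.sum_range_succ, ih.1, ih.2, Nat.choose_succ_succ' n 1, Nat.choose_one_right, add_nsmul z n, succ_nsmul]
      abel

omit [Finite W] in
theorem jobSat : JobSat.{u} := by
  intro p hp G W _ _ _ _ ι Y P m inj eqv hDY hYC hYP hP hm ⟨A0, h1, h2, h3, h4⟩
  have : Finite W := Finite.of_injective (fun w => ι (.ofAdd w)) (inj.comp Multiplicative.ofAdd.injective)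
  have fx : ∀ (g : G) (w : W), g • w = w ↔ g * ι (.ofAdd w) = ι (.ofAdd w) * g := fun g w => by
    rw [← mul_inv_eq_iff_eq_mul, ← eqv, inj.eq_iff, Multiplicative.ofAdd.injective.eq_iff]
  obtain ⟨C, hC⟩ : ∃ C, C = centralizer (ι.range : Set G) := ⟨_, rfl⟩
  have mC : ∀ g, g ∈ C ↔ ∀ w : W, g • w = w := fun g => by
    rw [hC, mem_centralizer_iff]
    exact ⟨fun h w => (fx g w).2 (h _ ⟨_, rfl⟩).symm, by rintro h _ ⟨w, rfl⟩; exact ((fx g w.toAdd).1 (h _)).symm⟩
  rw [← hC] at hYC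
  obtain ⟨M, ⟨m1, m2⟩, hM⟩ := Set.exists_max_image {A : Subgroup G | A ≤ P ∧ A ≤ centralizer (A : Set G)}
    (fun A => Nat.card A) (Set.toFinite _) ⟨A0, h1, h2⟩
  have hmM : m ≤ Nat.card M := h3.trans (hM A0 ⟨h1, h2⟩)
  obtain ⟨A, ⟨a1, a2, a3, a4⟩, hA⟩ := Set.exists_min_image {A : Subgroup G | A ≤ P ∧ A ≤ centralizer (A : Set G) ∧
      Nat.card M ≤ Nat.card A ∧ ¬ A ≤ Y} (fun A => Nat.card (A ⊔ C : Subgroup G)) (Set.toFinite _) (by
    by_cases h : M ≤ Y
    · exact ⟨A0, h1, h2, (hm M h m2).trans h3, h4⟩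
    · exact ⟨M, m1, m2, le_rfl, h⟩)
  refine ⟨A, ?_, a2, hmM.trans a3, a4⟩
  have pA : IsPGroup p A := hP.to_le a1
  let im : Subgroup G → Subgroup G := fun B => (AddSubgroup.toSubgroup (Fix (⊤ : AddSubgroup W) B)).map ι
  have key : ∀ B ≤ A, B.relIndex A = p → B ⊔ im B ≤ P ∧ B ⊔ im B ≤ centralizer ((B ⊔ im B : Subgroup G) : Set G) ∧
      Nat.card A * (Fix (⊤ : AddSubgroup W) A).relIndex (Fix ⊤ B) ≤ p * Nat.card (B ⊔ im B : Subgroup G) := by
    intro B hB hi
    have c1 : im B ≤ centralizer (B : Set G) := by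
      rintro _ ⟨w, hw, rfl⟩
      exact mem_centralizer_iff.2 fun b hb => (fx b w.toAdd).1 (hw.2 b hb)
    have c2 : im B ≤ centralizer (im B : Set G) := by
      rintro _ ⟨w, -, rfl⟩
      refine mem_centralizer_iff.2 ?_
      rintro _ ⟨w', -, rfl⟩
      rw [← map_mul, ← map_mul, mul_comm]
    refine ⟨sup_le (hB.trans a1) ((map_le_range _ _).trans (hDY.trans hYP)), sup_le ?_ ?_, ?_⟩
    · exact le_centralizer_iff.1 (sup_le (hB.trans (a2.trans (centralizer_le hB))) c1)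
    · exact le_centralizer_iff.1 (sup_le (le_centralizer_iff.1 c1) c2)
    · have e1 := relIndex_mul_relIndex ⊥ B A bot_le hB
      have e2 := relIndex_mul_relIndex ⊥ B (B ⊔ im B) bot_le le_sup_left
      simp only [relIndex_bot_left] at e1 e2
      have e3 : (Fix (⊤ : AddSubgroup W) A).relIndex (Fix ⊤ B) ≤ B.relIndex (B ⊔ im B) := by
        rw [← AddSubgroup.relIndex_toSubgroup, ← relIndex_map_map_of_injective _ _ inj]
        refine le_trans ?_ (relIndex_le_of_le_right (le_sup_right : im B ≤ _) FiniteIndex.index_ne_zero)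
        rw [← inf_relIndex_right B]
        refine relIndex_le_of_le_left ?_ FiniteIndex.index_ne_zero
        rintro _ ⟨hb, w, -, rfl⟩
        exact ⟨w, ⟨trivial, fun g hg => (fx g w.toAdd).2 (mem_centralizer_iff.1 (a2 (hB hb)) g hg)⟩, rfl⟩
      rw [← e1, ← e2, hi, mul_comm _ p, mul_assoc]
      exact Nat.mul_le_mul_left _ (Nat.mul_le_mul_left _ e3)
  have rle : ∀ B ≤ A, B.relIndex A = p → (Fix (⊤ : AddSubgroup W) A).relIndex (Fix ⊤ B) ≤ p := fun B hB hi => by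
    obtain ⟨k1, k2, k3⟩ := key B hB hi
    have := k3.trans (Nat.mul_le_mul_left p ((hM _ ⟨k1, k2⟩).trans a3))
    rw [mul_comm p] at this
    exact Nat.le_of_mul_le_mul_left this Nat.card_pos
  by_cases np : NP p (⊤ : AddSubgroup W) A
  · exact le_JJ' (Or.inl np) a1 Y
  simp only [NP, not_forall] at np
  obtain ⟨B, hB, hi, w, hw, pw, a, ha, hs⟩ := np
  have cz := (card_map_le (W := W) (B := B) ha).trans (rle B hB hi)
  have hz := fix_of_card pA (inv_map a2 hB ha) cz (z := a • w - w) ⟨w, hw, rfl⟩ ha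
  rw [(sum_eq (z := a • w - w) (by abel) hz p).2, pw, zero_add] at hs
  have p2 : p = 2 := by
    by_contra h
    obtain ⟨k, hk⟩ := hp.out.dvd_choose_self (k := 2) two_ne_zero (lt_of_le_of_ne hp.out.two_le (Ne.symm h))
    exact hs (by rw [hk, mul_nsmul, smul_sub, ← smul_comm a p w, pw, smul_zero, sub_zero, smul_zero])
  subst p2
  have ne : a • w ≠ w := fun h => hs (by rw [h, sub_self, smul_zero])
  obtain ⟨k1, k2, k3⟩ := key B hB hi
  have r2 : 2 ≤ (Fix (⊤ : AddSubgroup W) A).relIndex (Fix ⊤ B) := by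
    have n0 : (Fix (⊤ : AddSubgroup W) A).relIndex (Fix ⊤ B) ≠ 0 := AddSubgroup.FiniteIndex.index_ne_zero
    have n1 : (Fix (⊤ : AddSubgroup W) A).relIndex (Fix ⊤ B) ≠ 1 := fun h =>
      ne ((AddSubgroup.relIndex_eq_one.1 h hw).2 a ha)
    omega
  have hY : B ⊔ im B ≤ Y := by
    by_contra h
    have le := hA _ ⟨k1, k2, a3.trans (by nlinarith), h⟩
    have i1 : im B ≤ C := (map_le_range _ _).trans (hDY.trans hYC)
    have i2 : B ⊔ im B ⊔ C ≤ A ⊔ C := sup_le (sup_le (hB.trans le_sup_left) (i1.trans le_sup_right)) le_sup_right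
    have i3 : B ⊔ im B ⊔ C ≤ MulAction.stabilizer G w :=
      sup_le (sup_le hw.2 (i1.trans fun g hg => (mC g).1 hg w)) fun g hg => (mC g).1 hg w
    exact ne (i3 ((eq_of_le_of_card_ge i2 le).ge (mem_sup_left ha)))
  have hBY : B ≤ Y := le_sup_left.trans hY
  have tv : IsTv (⊤ : AddSubgroup W) a (a • w - w) := by
    refine ⟨trivial, sub_ne_zero.2 ne, fun w' _ => ?_, w, trivial, (two_nsmul w).symm.trans pw, ne⟩
    by_contra! h
    have sub : ({0, a • w - w, a • w' - w'} : Set W) ⊆ (Fix (⊤ : AddSubgroup W) B).map (TT W a) := by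
      rintro _ (rfl | rfl | rfl)
      exacts [zero_mem _, ⟨w, hw, rfl⟩, ⟨w', ⟨trivial, fun b hb => (mC b).1 (hYC (hBY hb)) w'⟩, rfl⟩]
    have := Set.ncard_le_ncard sub (Set.toFinite _)
    rw [Set.ncard_eq_three.2 ⟨_, _, _, (sub_ne_zero.2 ne).symm, (sub_ne_zero.2 h.1).symm,
      fun e => h.2 (by rw [e]; abel), rfl⟩, ← Nat.card_coe_set_eq] at this
    exact absurd (this.trans cz) (by norm_num)
  have ja : a ∈ JJ (AP 2 (⊤ : AddSubgroup W)) Y P :=
    le_JJ' (Or.inr ⟨rfl, a, _, tv, rfl⟩) (zpowers_le.2 (a1 ha)) Y (mem_zpowers a)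
  intro x hx
  by_cases xB : x ∈ B
  · exact le_JJ _ Y P (hBY xB)
  · have := (mul_mem_iff_of_index_two hi (a := ⟨x, hx⟩) (b := ⟨a, ha⟩)).2
      (iff_of_false xB fun h => ne (hw.2 a h))
    exact (mul_mem_cancel_right ja).1 (le_JJ _ Y P (hBY this))

end H6.Cx
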