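import Cfsg.Agent.H96.U2CenSpec

/-! S3275, chapter U2F, central case, slot AB: `v ∈ Q` and its conjugates lie in `R`. -/

set_option autoImplicit false

open Subgroup Cfsg H98 H48.DP H96.U2I H96.Cen
open scoped commutatorElement

namespace H6.DpwAB

universe u

variable {G : Type u} [Group G]

theorem nor_of {K : Subgroup G} {H : Subgroup G} (h : ∀ m ∈ H, ∀ k ∈ K, m * k * m⁻¹ ∈ K) :
    H ≤ No K := fun m hm => mem_normalizer_iff.2 fun k =>
  ⟨h m hm k, fun e => by simpa [mul_assoc] using h _ (inv_mem hm) _ e⟩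

theorem memC {x g : G} : g ∈ C1 x ↔ x * g = g * x := by
  simp [mem_centralizer_iff]

theorem conj_zp {z h w : G} (hh : h ∈ C1 z) (hw : w ∈ zpowers z) : h * w * h⁻¹ = w := by
  obtain ⟨n, rfl⟩ := hw
  have c : Commute z h := memC.1 hh
  rw [← (c.zpow_left n).eq, mul_inv_cancel_right]

theorem jobAB : JobAB.{u} := by
  intro sq G _ _ M Q T R Q0 F y z c hz
  have QT : Q ≤ T := c.QQ.trans c.QT
  have hQ : IsPGroup 2 Q := c.syl.2.1.to_le QT
  have hY : Yq Q ≤ R := fun u hu => by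
    by_contra hr
    exact sq G M Q T R Q0 F (Yq Q) y u c
      (nor_of fun m hm k hk => Yq_conj (c.MQ (c.TM hm)) hk) (fun a ha => c.QQ ha.1) hu hr
      fun a ha => by
        rw [ha.1.2.2, mul_one, mul_inv_cancel]; exact one_mem _
  have zC : z ∈ Ce Q := centralizer_anti QT hz.zc
  have zY : z ∈ Yq Q := ⟨c.cq zC, zC, hz.zz⟩
  have c1 : ∀ r ∈ R, Commute r (y * z * y⁻¹) := fun r hr => mem_centralizer_iff.1 hz.vc r hr
  have vQ : y * z * y⁻¹ ∈ Q := by
    let K : Subgroup G :=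
      { carrier := {m | m ∈ M ∧ (∀ g ∈ Q, ⁅m, g⁆ ∈ Yq Q) ∧ ∀ z ∈ Yq Q, Commute m z}
        one_mem' := ⟨one_mem _, fun g _ => by simp, fun z _ => Commute.one_left z⟩
        mul_mem' := fun {m n} hm hn => ⟨mul_mem hm.1 hn.1, fun g hg => by
          rw [show ⁅m * n, g⁆ = m * ⁅n, g⁆ * m⁻¹ * ⁅m, g⁆ by
            simp only [commutatorElement_def]; group]
          exact mul_mem (Yq_conj (c.MQ hm.1) (hn.2.1 g hg)) (hm.2.1 g hg),
          fun z hz => (hm.2.2 z hz).mul_left (hn.2.2 z hz)⟩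
        inv_mem' := fun {m} hm => ⟨inv_mem hm.1, fun g hg => by
          rw [show ⁅m⁻¹, g⁆ = m⁻¹ * ⁅m, g⁆⁻¹ * m⁻¹⁻¹ by simp only [commutatorElement_def]; group]
          exact Yq_conj (c.MQ (inv_mem hm.1)) (inv_mem (hm.2.1 g hg)),
          fun z hz => (hm.2.2 z hz).inv_left⟩ }
    have cK : ∀ m ∈ M, ∀ k ∈ K, m * k * m⁻¹ ∈ K := fun m hm k hk =>
      ⟨mul_mem (mul_mem hm hk.1) (inv_mem hm), fun g hg => by
        rw [show ⁅m * k * m⁻¹, g⁆ = m * ⁅k, m⁻¹ * g * m⁆ * m⁻¹ by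
          simp only [commutatorElement_def]; group]
        exact Yq_conj (c.MQ hm) (hk.2.1 _ (conj_mem_of_mem_normalizer' (c.MQ hm) hg)),
        fun w hw => by
        have := (hk.2.2 _ (Yq_conj (c.MQ (inv_mem hm)) hw)).eq
        calc m * k * m⁻¹ * w = m * (k * (m⁻¹ * w * m⁻¹⁻¹)) * m⁻¹ := by group
          _ = w * (m * k * m⁻¹) := by rw [this]; group⟩
    refine c.o2 K (fun _ h => h.1) (nor_of cK) (isPGroup_of_forall_pow_mem hQ fun k hk => ⟨1, ?_⟩)
      (?_ : _ ∈ K)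
    · rw [pow_one, pow_two]
      refine c.cq (mem_centralizer_iff.2 fun g hg => ?_)
      refine (commutatorElement_eq_one_iff_commute.1 ?_).symm.eq
      rw [show ⁅k * k, g⁆ = k * ⁅k, g⁆ * k⁻¹ * ⁅k, g⁆ by
        simp only [commutatorElement_def]; group, (hk.2.2 _ (hk.2.1 g hg)).eq, mul_inv_cancel_right]
      exact (hk.2.1 g hg).2.2
    · refine ⟨c.TM (c.RT hz.vR), fun g hg => ?_, fun w hw => (c1 w (hY hw)).symm⟩
      by_cases hr : g ∈ R
      · rw [commutatorElement_eq_one_iff_commute.2 (c1 g hr).symm]; exact one_mem _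
      · rw [← commutatorElement_inv, hz.cm g (QT hg) hr]; exact inv_mem zY
  refine ⟨vQ, fun h hh => ?_⟩
  have QC : Q ≤ C1 z := fun q hq => memC.2 (mem_centralizer_iff.1 zC q hq).symm
  let K : Subgroup G :=
    { carrier := {a | a ∈ Q ∧ (∀ g ∈ Q, ⁅g, a⁆ ∈ zpowers z) ∧ a * a ∈ zpowers z}
      one_mem' := ⟨one_mem _, fun g _ => by simp, by simp⟩
      mul_mem' := fun {a b} ha hb => ⟨mul_mem ha.1 hb.1, fun g hg => by
        rw [show ⁅g, a * b⁆ = ⁅g, a⁆ * (a * ⁅g, b⁆ * a⁻¹) by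
          simp only [commutatorElement_def]; group, conj_zp (QC ha.1) (hb.2.1 g hg)]
        exact mul_mem (ha.2.1 g hg) (hb.2.1 g hg), by
        rw [show a * b * (a * b) = a * a * ⁅a⁻¹, b⁆ * (b * b) by
          simp only [commutatorElement_def]; group]
        exact mul_mem (mul_mem ha.2.2 (hb.2.1 _ (inv_mem ha.1))) hb.2.2⟩
      inv_mem' := fun {a} ha => ⟨inv_mem ha.1, fun g hg => by
        rw [show ⁅g, a⁻¹⁆ = a⁻¹ * ⁅g, a⁆⁻¹ * a⁻¹⁻¹ by simp only [commutatorElement_def]; group,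
          conj_zp (QC (inv_mem ha.1)) (inv_mem (ha.2.1 g hg))]
        exact inv_mem (ha.2.1 g hg), by
        rw [← mul_inv_rev]; exact inv_mem ha.2.2⟩ }
  have cK : ∀ m ∈ C1 z, ∀ k ∈ K, m * k * m⁻¹ ∈ K := fun m hm k hk =>
    ⟨conj_mem_of_mem_normalizer (c.MQ (hz.cz hm)) hk.1, fun g hg => by
      have h1 := hk.2.1 _ (conj_mem_of_mem_normalizer' (c.MQ (hz.cz hm)) hg)
      rw [show ⁅g, m * k * m⁻¹⁆ = m * ⁅m⁻¹ * g * m, k⁆ * m⁻¹ by
        simp only [commutatorElement_def]; group, conj_zp hm h1]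
      exact h1, by
      rw [show m * k * m⁻¹ * (m * k * m⁻¹) = m * (k * k) * m⁻¹ by group, conj_zp hm hk.2.2]
      exact hk.2.2⟩
  have vK : y * z * y⁻¹ ∈ K := ⟨vQ, fun g hg => by
    by_cases hr : g ∈ R
    · rw [commutatorElement_eq_one_iff_commute.2 (c1 g hr)]; exact one_mem _
    · rw [hz.cm g (QT hg) hr]; exact mem_zpowers z, by
    rw [show y * z * y⁻¹ * (y * z * y⁻¹) = y * (z * z) * y⁻¹ by group, hz.zz, mul_one,
      mul_inv_cancel]
    exact one_mem _⟩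
  by_contra hr
  refine sq G M Q T R Q0 F K y _ c
    (nor_of fun m hm k hk => cK m (memC.2 (mem_centralizer_iff.1 hz.zc m hm).symm) k hk)
    (fun a ha => c.QQ ha.1) (cK h hh _ vK) hr fun a ha => ?_
  obtain ⟨n, hn⟩ := ha.1.2.2
  rw [← hn]
  show y * z ^ n * y⁻¹ ∈ Q0
  rw [← conj_zpow]
  exact zpow_mem (c.QQ vQ) n

end H6.DpwAB
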