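/- Small-exponent subgroups of the hyperfocal subgroup control fusion (Benson–Grodal–Henke,
Henke–Liao) and related normality criteria. -/
import Cfsg.Agent.H6.FusA
import Cfsg.Agent.H95.Hyp
import Cfsg.Agent.H9.Critical
import Cfsg.Agent.H92.Normal

set_option autoImplicit false
set_option linter.unusedSectionVars false

namespace H6
open Cfsg Cfsg.FusionSystem H92 H93
open scoped commutatorElement

universe u

/-- `x` has order dividing `p`, or dividing `4` for `p = 2`. -/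
def Sm (p : ℕ) {G : Type*} [Group G] (x : G) : Prop := x ^ p = 1 ∨ (p = 2 ∧ x ^ 4 = 1)

theorem Sm.map {p : ℕ} {G H : Type*} [Group G] [Group H] {x : G} (h : Sm p x) (f : G →* H) :
    Sm p (f x) :=
  h.imp (fun h => by rw [← map_pow, h, map_one]) fun h => ⟨h.1, by rw [← map_pow, h.2, map_one]⟩

theorem Sm.pow_four {G : Type*} [Group G] {x : G} (h : Sm 2 x) : x ^ 4 = 1 :=
  h.elim (fun h => by rw [show 4 = 2 * 2 from rfl, pow_mul, h, one_pow]) fun h => h.2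

theorem Sm.card {p : ℕ} [hp : Fact p.Prime] {G : Type*} [Group G] {x : G} (h : Sm p x)
    (h1 : x ≠ 1) : Nat.card (Subgroup.zpowers x) = p ∨ Nat.card (Subgroup.zpowers x) = 4 := by
  rw [Nat.card_zpowers]
  rcases h with h | ⟨rfl, h⟩
  · exact Or.inl (orderOf_eq_prime h h1)
  · by_cases h2 : x ^ 2 = 1
    · exact Or.inl (orderOf_eq_prime h2 h1)
    · exact Or.inr (orderOf_eq_prime_pow (p := 2) (n := 1) (by simpa using h2) h)

/-- A characteristic subgroup of exponent `p` (or `4`) detecting `p'`-automorphisms. -/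
theorem exists_char_small {G : Type*} [Group G] [Finite G] {p : ℕ} [hp : Fact p.Prime]
    (hG : IsPGroup p G) : ∃ H : Subgroup G, H.Characteristic ∧ (∀ h ∈ H, Sm p h) ∧
      ∀ a : MulAut G, Nat.Coprime (orderOf a) p → (∀ x ∈ H, a x = x) → a = 1 := by
  by_cases hp2 : p = 2
  swap
  · obtain ⟨H, h1, h2, -, -, h3⟩ := H9.exists_characteristic_exponent_p_faithful hp2 hG
    exact ⟨H, h1, fun h hh => Or.inl (h2 h hh), h3⟩
  subst hp2
  obtain ⟨C, hch, h1, h2, h3⟩ := H9.exists_critical hG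
  have hpow : ∀ x ∈ C, ∀ y ∈ C, (x * y) ^ 4 = x ^ 4 * y ^ 4 := fun x hx y hy => by
    have k1 : Commute x ⁅y, x⁆ := (h2 y hy x).2 x hx
    have k2 : Commute y ⁅y, x⁆ := (h2 y hy x).2 y hy
    have k3 : ⁅y, x⁆ ^ 2 = 1 := by
      rw [← H9.commutatorElement_pow_left k2, commutatorElement_eq_one_iff_commute]
      exact Commute.symm (h1 y hy x hx)
    rw [H9.mul_pow_of_commute_commutator k1 k2, show Nat.choose 4 2 = 2 * 3 from rfl, pow_mul, k3,
      one_pow, one_mul]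
  let H : Subgroup G :=
    { carrier := {x | x ∈ C ∧ x ^ 4 = 1}
      one_mem' := ⟨C.one_mem, one_pow 4⟩
      mul_mem' := fun {x y} hx hy => ⟨C.mul_mem hx.1 hy.1, by
        rw [hpow x hx.1 y hy.1, hx.2, hy.2, one_mul]⟩
      inv_mem' := fun {x} hx => ⟨C.inv_mem hx.1, by rw [inv_pow, hx.2, inv_one]⟩ }
  refine ⟨H, H9.characteristic_of_forall_mem fun φ x hx =>
    ⟨H9.apply_mem_of_characteristic φ hx.1, by rw [← map_pow, hx.2, map_one]⟩,
    fun h hh => Or.inr ⟨rfl, hh.2⟩, fun a ha h => ?_⟩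
  have h4 : IsPGroup 4 G := fun g => by
    obtain ⟨k, hk⟩ := hG g
    exact ⟨k, by rw [show 4 = 2 * 2 from rfl, mul_pow, pow_mul, hk, one_pow]⟩
  exact H9.mulAut_eq_one_of_fixes_self_centralizing hG h3 a ha
    (H9.mulAut_fixes_of_pow_hom h4 hpow a (ha.pow_right 2)
      (fun x hx => H9.apply_mem_of_characteristic a hx) fun x hx hxp => h x ⟨hx, hxp⟩)

section gen
variable {Ω : Type u} [Group Ω] {S : Subgroup Ω} [Finite S] {F E : FusionSystem S}
  {P Q R D : Subgroup Ω} {f : Ω → Ω} {p : ℕ} [hp : Fact p.Prime]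

omit [Finite S] hp in
theorem orderOf_dvd_of_restrict {α : MulAut P} {β : MulAut Q}
    (e : ∀ x ∈ Q, af β x = af α x) : orderOf β ∣ orderOf α := by
  have key : ∀ n : ℕ, ∀ x ∈ Q, af (β ^ n) x = af (α ^ n) x := fun n => by
    induction n with
    | zero => simp
    | succ n ih =>
      intro x hx
      rw [pow_succ, pow_succ, af_mul_apply, af_mul_apply, ih _ (af_mem β hx), e x hx]
  exact orderOf_dvd_of_pow_eq_one (aut_eq_one fun x hx => by
    rw [key _ x hx, pow_orderOf_eq_one, af_one_apply])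

/-- `D ≤ P ∩ hyp(F)` is small, `Aut_F(P)`-invariant, and detects `p'`-automorphisms. -/
structure Det (p : ℕ) (F : FusionSystem S) (P D : Subgroup Ω) : Prop where
  le : D ≤ P
  hyp : D ≤ F.hyperfocalSubgroup p
  inv : ∀ α ∈ F.autGroup P, ∀ x ∈ D, af α x ∈ D
  sm : ∀ x ∈ D, Sm p x
  det : ∀ α ∈ F.autGroup P, (orderOf α).Coprime p → (∀ x ∈ D, af α x = x) → α = 1

theorem exists_det (hS : IsPGroup p S) (hF : F.IsSaturated p) (hP : P ≤ S) :
    ∃ D, Det p F P D := by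
  have hH : P ⊓ F.hyperfocalSubgroup p ≤ S := inf_le_left.trans hP
  have := finite_of_le hH
  obtain ⟨D, h1, h2, h3⟩ := exists_char_small (hS.to_le hH)
  have hD : D.map (P ⊓ F.hyperfocalSubgroup p).subtype ≤ _ := Subgroup.map_subtype_le _
  have key : ∀ α ∈ F.autGroup P, ∃ β : MulAut (P ⊓ F.hyperfocalSubgroup p :),
      ∀ x ∈ P ⊓ F.hyperfocalSubgroup p, af β x = af α x := fun α hα => by
    obtain ⟨β, -, e⟩ := ((mor_af hP hα).mono inf_le_left).exists_aut'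
      (P := P ⊓ F.hyperfocalSubgroup p) fun x hx => ⟨af_mem α hx.1,
        (mor_af hP hα).mem_of_stronglyClosed (H95.stronglyClosed_hyp hS hF) hx.1 hx.2⟩
    exact ⟨β, e⟩
  refine ⟨D.map (Subgroup.subtype _), hD.trans inf_le_left, hD.trans inf_le_right,
    fun α hα => ?_, ?_, fun α hα hc h => ?_⟩
  · rintro _ ⟨x, hx, rfl⟩
    obtain ⟨β, e⟩ := key α hα
    exact ⟨β x, H9.apply_mem_of_characteristic β hx, (af_coe β x).symm.trans (e x x.2)⟩
  · rintro _ ⟨x, hx, rfl⟩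
    exact (h2 x hx).map _
  · obtain ⟨β, e⟩ := key α hα
    have h4 := h3 β (hc.coprime_dvd_left (orderOf_dvd_of_restrict e)) fun x hx =>
      Subtype.ext ((af_coe β x).symm.trans ((e x x.2).trans (h x ⟨x, hx, rfl⟩)))
    refine aut_eq_one fun x hx => af_fix_of_coprime (hS.to_le hP) hc hx ?_
    rw [← e _ ⟨P.mul_mem (P.inv_mem hx) (af_mem α hx), H95.mem_hyp hP hα hc hx⟩, h4, af_one_apply]

/-- An automorphism stabilizing an invariant chain in `D` lies in `O_p(Aut_F(P))`. -/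
theorem Det.mem_pCoreOf (hS : IsPGroup p S) (hP : P ≤ S) (hD : Det p F P D) (C : ℕ → Subgroup Ω)
    (n : ℕ) (h0 : C 0 = ⊥) (hn : D ≤ C n)
    (hinv : ∀ α ∈ F.autGroup P, ∀ i, ∀ x ∈ D, x ∈ C i → af α x ∈ C i) {β : MulAut P}
    (hβ : β ∈ F.autGroup P) (h : ∀ i < n, ∀ x ∈ D, x ∈ C (i + 1) → x⁻¹ * af β x ∈ C i) :
    β ∈ pCoreOf p (F.autGroup P) := by
  have := finite_of_le hP
  refine mem_pCoreOf_of_chain' _ (fun i => D ⊓ C i) n
    (fun α hα i _ x _ hx => ⟨hD.inv α hα x hx.1, hinv α hα i x hx.1 hx.2⟩)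
    (fun α hα hc h' => hD.det α hα hc fun x hx => ?_) hβ fun i hi x _ hx =>
      ⟨D.mul_mem (D.inv_mem hx.1) (hD.inv β hβ x hx.1), h i hi x hx.1 hx.2⟩
  refine fix_of_chain (hS.to_le hP) hc (fun i => D ⊓ C i) n (fun y _ hy => ?_) h' x (hD.le hx) ⟨hx, hn hx⟩
  have : y ∈ C 0 := hy.2
  rw [h0, Subgroup.mem_bot] at this
  rw [this, (mulOn_af α).map_one]

theorem isNormal_top_of_chain (hS : IsPGroup p S) (hF : F.IsSaturated p)
    (h : ∀ P D, F.IsEssential p P → Det p F P D → ∃ (C : ℕ → Subgroup Ω) (n : ℕ), C 0 = ⊥ ∧ D ≤ C n ∧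
      (∀ α ∈ F.autGroup P, ∀ i, ∀ x ∈ D, x ∈ C i → af α x ∈ C i) ∧
      ∀ s ∈ S, ∀ i < n, ∀ x ∈ D, x ∈ C (i + 1) → x⁻¹ * (s * x * s⁻¹) ∈ C i) : F.IsNormal S := by
  refine isNormal_top_of_no_essential hS hF fun P hP => ?_
  obtain ⟨D, hD⟩ := exists_det hS hF hP.1.1
  obtain ⟨C, n, h0, hn, h1, h2⟩ := h P D hP hD
  refine (lt_normalizerIn hS (essential_lt hS hF hP)).not_ge fun s hs => ?_
  refine mem_of_mem_pCoreOf (centralizerIn_le_of_centric hP.1) (essential_radical hS hF hP) hs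
    (hD.mem_pCoreOf hS hP.1.1 C n h0 hn h1
      (autInducedBy_le_autGroup F hP.1.1 (cAut_mem hs.2 hs.1)) fun i hi x hx hx' => ?_)
  rw [af_cAut hs.2 (hD.le hx)]
  exact h2 s hs.1 i hi x hx hx'

omit [Finite S] hp in
theorem Mor.mem_zc [Finite S] (hf : Mor F S f) {i : ℕ} {x : Ω} (hx : x ∈ zc S i) : f x ∈ zc S i := by
  obtain ⟨α, -, e⟩ := hf.exists_aut' fun x hx => hf.mem hx
  rw [← e x (zc_le S i hx)]
  exact af_mem_of_char (zc_char S i) α (zc_le S i hx) hx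

theorem isNormal_top_of_small (hS : IsPGroup p S) (hF : F.IsSaturated p)
    (h : ∀ x ∈ F.hyperfocalSubgroup p, Sm p x → x ≠ 1 → ∀ f, Mor F (Subgroup.zpowers x) f →
      ∃ g, Mor F S g ∧ g x = f x) : F.IsNormal S := by
  obtain ⟨n, hn⟩ := exists_zc_eq hS
  refine isNormal_top_of_chain hS hF fun P D hP hD => ⟨zc S, n, zc_zero S,
    hn.symm ▸ hD.le.trans hP.1.1, fun α hα i x hx hx' => ?_,
    fun s hs i _ x _ hx => inv_mul_conj_mem_zc hs hx⟩
  by_cases h1 : x = 1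
  · rw [h1, (mulOn_af α).map_one]; exact one_mem _
  obtain ⟨g, hg, e⟩ := h x (hD.hyp hx) (hD.sm x hx) h1 _
    ((mor_af hP.1.1 hα).mono (Subgroup.zpowers_le.2 (hD.le hx)))
  exact e ▸ Mor.mem_zc hg hx'

theorem eq_inner_of_small (hS : IsPGroup p S) (hF : F.IsSaturated p)
    (h : ∀ x ∈ F.hyperfocalSubgroup p, Sm p x → x ≠ 1 → ∀ f, Mor F (Subgroup.zpowers x) f →
      ∃ s ∈ S, s * x * s⁻¹ = f x) : F = innerFusionSystem S := by
  obtain ⟨n, hn⟩ := exists_zc_eq hS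
  refine eq_inner_of_isPGroup hS hF fun P hP => ?_
  have hP := (top_or_essential_fn hP).1
  obtain ⟨D, hD⟩ := exists_det hS hF hP
  have key : ∀ α ∈ F.autGroup P, ∀ x ∈ D, ∃ s ∈ S, s * x * s⁻¹ = af α x := fun α hα x hx => by
    by_cases h1 : x = 1
    · exact ⟨1, one_mem _, by rw [h1, (mulOn_af α).map_one]; simp⟩
    exact h x (hD.hyp hx) (hD.sm x hx) h1 _ ((mor_af hP hα).mono (Subgroup.zpowers_le.2 (hD.le hx)))
  refine (isPGroup_pCoreOf p (F.autGroup P)).to_le fun β hβ => hD.mem_pCoreOf hS hP (zc S) n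
    (zc_zero S) (hn.symm ▸ hD.le.trans hP) (fun α hα i x hx hx' => ?_) hβ fun i _ x hx hx' => ?_
  · obtain ⟨s, hs, e⟩ := key α hα x hx
    exact e ▸ Mor.mem_zc (mor_conj F le_rfl hs) hx'
  · obtain ⟨s, hs, e⟩ := key β hβ x hx
    exact e ▸ inv_mul_conj_mem_zc hs hx'

end gen

section amb
variable {Ω : Type u} [Group Ω] {S T : Subgroup Ω} {F E : FusionSystem S}
  {P Q R K A C : Subgroup Ω} {g h x : Ω} {p : ℕ}

theorem pMod_sup (hK : IsPGroup p K) (hn : K ≤ Nm C) : PMod p (K ⊔ C) C := by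
  intro y hy
  obtain ⟨a, ha, c, hc, rfl⟩ := (mem_sup_of_le_Nm hn).1 hy
  have key : ∀ n : ℕ, (a ^ n)⁻¹ * (a * c) ^ n ∈ C := fun n => by
    induction n with
    | zero => simp
    | succ n ih =>
      have := mul_mem (conj_mem_of_Nm' (hn ha) ih) hc
      convert this using 1
      rw [pow_succ, pow_succ]; group
  obtain ⟨n, e⟩ := isPGroup_iff_forall.1 hK a ha
  exact ⟨n, by simpa [e] using key (p ^ n)⟩

variable [hp : Fact p.Prime] [Finite Ω]

theorem pMod_of_coprime (h : ∀ a ∈ A, (orderOf a).Coprime p → a ∈ C) : PMod p A C :=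
  (pMod_Opr A).mono le_rfl (Opr_le_iff.2 h)

theorem orderOf_cAut_coprime (hg : g ∈ Nm P) (hc : (orderOf g).Coprime p) :
    (orderOf (cAut P g hg)).Coprime p := by
  refine hc.coprime_dvd_left (orderOf_dvd_of_pow_eq_one ?_)
  rw [cAut_pow, cAut_eq_one, pow_orderOf_eq_one]; exact one_mem _

/-- A small abelian normal subgroup of `P` inside the hyperfocal subgroup whose centralizer in
`Aut_F(P)` is a `p`-group. -/
theorem exists_abelian_det (hF : SatA p F) (hP : P ≤ S) : ∃ A ≤ P, P ≤ Nm A ∧ A ≤ Ct A ∧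
    A ≤ F.hyperfocalSubgroup p ∧ (∀ x ∈ A, Sm p x) ∧ PMod p (Aut F P ⊓ Ct A) (Ct P) := by
  obtain ⟨D, hD⟩ := exists_det hF.pg hF.sat hP
  have hP' := hF.pgl hP
  have := hP'.isNilpotent
  have hn : (D.subgroupOf P).Normal := ⟨fun x hx s => by
    have := hD.inv _ (cAut_mem_autGroup hP (le_Aut F hP s.2)) x hx
    rwa [af_cAut _ x.2] at this⟩
  obtain ⟨B, h1, h2, -, h3, h4⟩ := H9.exists_scn_ge (A := ⊥) (N := D.subgroupOf P)
    inferInstance bot_le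
  have hB : B.map P.subtype ≤ D := Subgroup.map_le_iff_le_comap.2 h3
  refine ⟨B.map P.subtype, Subgroup.map_subtype_le _, fun s hs => mem_Nm_of_conj ?_, ?_,
    hB.trans hD.hyp, fun x hx => hD.sm x (hB hx), pMod_of_coprime fun a ha hc => ?_⟩
  · rintro _ ⟨x, hx, rfl⟩
    exact ⟨_, h1.conj_mem x hx ⟨s, hs⟩, rfl⟩
  · rintro _ ⟨x, hx, rfl⟩ _ ⟨y, hy, rfl⟩
    exact congrArg Subtype.val (H9.isMulCommutative_iff_forall.1 h2 y hy x hx)
  · have hα := cAut_mem_autGroup hP ha.1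
    have hc' := orderOf_cAut_coprime ha.1.1 hc
    refine (cAut_eq_one ha.1.1).1 (hD.det _ hα hc' fun x hx =>
      af_fix_of_coprime hP' hc' (hD.le hx) ?_)
    have k1 : x⁻¹ * af (cAut P a ha.1.1) x ∈ D := D.mul_mem (D.inv_mem hx) (hD.inv _ hα x hx)
    rw [af_cAut _ (hD.le k1)]
    refine conj_eq_of_Ct ha.2 ⟨⟨_, hD.le k1⟩, h4 ⟨k1, fun y hy => Subtype.ext ?_⟩, rfl⟩
    have k2 := conj_eq_of_Ct ha.2 ⟨_, h1.conj_mem y hy ⟨x, hD.le hx⟩, rfl⟩
    have k3 := conj_eq_of_Ct ha.2 ⟨_, hy, rfl⟩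
    simp only [Subgroup.coe_subtype, Subgroup.coe_mul, Subgroup.coe_inv] at k2 k3 ⊢
    rw [af_cAut _ (hD.le hx)]
    calc _ = x⁻¹ * (x * y * x⁻¹) * (a * x * a⁻¹) := by group
      _ = x⁻¹ * (a * x * a⁻¹) * (a * y * a⁻¹) := by rw [← k2]; group
      _ = _ := by rw [k3]

/-- Benson–Grodal–Henke, Henke–Liao. -/
theorem M_of_small (hF : SatA p F) (hE : SatA p E) (hEF : E.IsSubsystemOf F)
    (h : ∀ A g, A ≤ F.hyperfocalSubgroup p → A ≤ Ct A → (∀ x ∈ A, Sm p x) → M F A g → M E A g) :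
    ∀ P ≤ S, ∀ g, M F P g → M E P g := by
  refine induction_on_card_ge S (fun P => ∀ g, M F P g → M E P g) fun P hP ih g hg => ?_
  obtain ⟨A, hA, hn, h1, h2, h3, h4⟩ := exists_abelian_det hF hP
  have hsc := H95.stronglyClosed_hyp hF.pg hF.sat
  have key : ∀ k m, M F A k → M F (cj k A) m → M E (cj k A) m := fun k m hk hm =>
    h _ m (hk.cj_le_sc hsc h2) (cj_Ct k A ▸ cj_mono k h1) (by
      rintro _ ⟨x, hx, rfl⟩; exact (h3 x hx).map _) hm
  obtain ⟨k, hk, hfn⟩ := hE.to_fn (hA.trans hP)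
  have hkP := hk.mono (le_inf hP hn)
  have hkF := hkP.sub hEF
  have hfc := hE.fc_of_fn hfn
  have hfc' : F.IsFullyCentralized (cj k A) := hF.amb.fc_iff.2 ⟨hfc.1, fun m hm =>
    (hE.amb.fc_iff.1 hfc).2 m (key k m (hkF.mono hA) hm)⟩
  have e : cj (k * g⁻¹) (cj g A) = cj k A := by rw [cj_mul, cj_inv_cj]
  obtain ⟨m, hm, e'⟩ := hE.to_fn' (key g _ (hg.mono hA) ((hg.mono hA).inv.mul (hkF.mono hA)
    (by simp))) (e.symm ▸ hfn)
  rw [e] at e'
  have hmP := hm.mono (le_inf hg.cj_le (cj_Nm g A ▸ cj_mono g hn))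
  have hφ : M F (cj k P) (m * g * k⁻¹) := hkF.inv.mul (hg.mul' (hmP.sub hEF)) (by simp)
  have e1 : cj (m * g * k⁻¹) (cj k A) = cj k A := by rw [cj_mul, cj_inv_cj, cj_mul, e']
  have hn' : cj k P ≤ Nm (cj k A) := cj_Nm k A ▸ cj_mono k hn
  obtain ⟨ψ, hψ, e2⟩ := hE.ext (key k _ (hkF.mono hA) (hφ.mono (cj_mono k hA))) (e1.symm ▸ hfc)
    (R := cj k P) fun x hx => hφ.mem_Nc hx (hn' hx)
  replace hψ := hψ.mono le_sup_right
  have e3 : cj (ψ * k) A = cj k A := by rw [cj_mul, cj_congr e2, e1]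
  have hw : M F P (ψ * k) := hkF.mul' (hψ.sub hEF)
  have hK : (S ⊓ Nm (cj k A)) ⊔ Ct (cj k A) ≤ Nm (cj k A) := sup_le inf_le_right (Ct_le_Nm _)
  have hG : KGood p F (cj k A) ((S ⊓ Nm (cj k A)) ⊔ Ct (cj k A)) := ⟨hfc', by
    rw [inf_eq_right.2 (Nm_sup_Ct_le_Aut F _), le_antisymm (sup_le_sup_right
      (inf_le_inf_left S hK) _) (sup_le_sup_right (le_inf inf_le_left le_sup_left) _)]
    exact PP.refl _⟩
  have hD := hF.kSys hG le_sup_right hK
  have hle : cj k A ≤ cj (ψ * k) P := e3 ▸ cj_mono _ hA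
  have hχ : M F (cj (ψ * k) P) (m * g * k⁻¹ * ψ⁻¹) := by
    rw [cj_mul]; exact (hψ.sub hEF).inv.mul hφ (by simp)
  have hc : m * g * k⁻¹ * ψ⁻¹ ∈ Ct (cj k A) := by
    have := conj_mem_Ct_cj (m * g * k⁻¹) (inv_mem e2)
    rw [e1] at this
    convert this using 1; group
  have h5 := M_of_pMod (E := E) hD inf_le_left (M.kSys ((sup_eq_left.2 hle).symm ▸ hχ)
    (le_sup_of_le_left (le_inf hw.cj_le (e3 ▸ cj_Nm _ A ▸ cj_mono _ hn)))
    (Subgroup.mem_sup_right hc)) (fun a ha => ?_) fun R u hu hc => ih R (hu.le.trans inf_le_left)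
      (by rwa [card_cj] at hc) u (hu.sub (kSys_sub _ _))
  · have := ((hkP.mul' hψ).mul' h5).mul hmP.inv (by
      rw [show m * g * k⁻¹ * ψ⁻¹ * (ψ * k) = m * g by group, cj_mul])
    convert this using 1; group
  · have hP' : cj (ψ * k) P ≤ S ⊓ ((S ⊓ Nm (cj k A)) ⊔ Ct (cj k A)) := le_inf hw.cj_le
      (le_sup_of_le_left (le_inf hw.cj_le (e3 ▸ cj_Nm _ A ▸ cj_mono _ hn)))
    obtain ⟨-, b, -, e4, hb⟩ := (M_kSys _ _).1 (M.of_Aut ha hP')
    have ha' : a ∈ (S ⊓ Nm (cj k A)) ⊔ Ct (cj k A) := by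
      simpa using mul_mem hb (Subgroup.mem_sup_right (inv_mem (Ct_anti hle e4)))
    obtain ⟨n, h6⟩ := pMod_sup (hF.pgl inf_le_left) (inf_le_right.trans (Nm_le_Nm_Ct _)) a ha'
    have h7 := h4.conj (ψ * k)
    rw [cj_inf, hw.cj_Aut, cj_Ct, cj_Ct, e3] at h7
    obtain ⟨n', h8⟩ := h7 _ ⟨pow_mem (Aut_mono (kSys_sub _ _) hP' ha) _, h6⟩
    exact ⟨n + n', by rwa [pow_add, pow_mul]⟩

end amb

theorem sub_of_small {Ω : Type u} [Group Ω] {S : Subgroup Ω} [Finite S] {F E : FusionSystem S}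
    {p : ℕ} [Fact p.Prime] (hS : IsPGroup p S) (hF : F.IsSaturated p) (hE : E.IsSaturated p)
    (hEF : E.IsSubsystemOf F) (h : ∀ A f, A ≤ F.hyperfocalSubgroup p → A ≤ Ct A →
      (∀ x ∈ A, Sm p x) → Mor F A f → Mor E A f) : F.IsSubsystemOf E := by
  obtain ⟨a, b, S', G, G', h1, h2, h3, h4, h5⟩ := exists_satA₂ hS hF hE hEF
  refine h2.symm.isSubsystemOf h1.symm (h3.amb.sub_iff.2 fun P g hg =>
    M_of_small h3 h4 h5 (fun A g k1 k2 k3 hg => ?_) P hg.le g hg)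
  have hm := h1.iso.symm.mul.mono hg.le
  have := h2.fwd _ _ (h _ _ (h1.symm.img_hyperfocal ▸ img_mono b k1) ?_ ?_ (h1.bwd _ _ hg))
  · rw [h1.iso.symm.img_img hg.le] at this
    exact this.congr fun y hy => by rw [h1.iso.a_b y (hg.le hy), h1.iso.a_b _ (hg.mem hy)]
  · intro x hx y hy
    obtain ⟨u, hu, rfl⟩ := hm.mem_img.1 hx
    obtain ⟨v, hv, rfl⟩ := hm.mem_img.1 hy
    rw [← hm _ hu _ hv, ← hm _ hv _ hu, k2 hu v hv]
  · intro x hx
    obtain ⟨u, hu, rfl⟩ := hm.mem_img.1 hx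
    exact (show Sm p (⟨u, hu⟩ : A) from (k3 u hu).imp Subtype.ext fun h => ⟨h.1, Subtype.ext h.2⟩).map
      hm.hom

end H6
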