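import Cfsg.Agent.H72.Lin
import Cfsg.Agent.H72.Std2
import Cfsg.Agent.H72.Stabs
/-! Quartets of a dodecad. -/
set_option autoImplicit false
namespace H6.Quart
open Cfsg H72 MulAction Finset
open scoped Pointwise

variable {g : P24} {d t u h : Finset GolayPt} {Q : Finset (Finset GolayPt)}

theorem hex_smul (hg : g ∈ M24) (hh : h ∈ hexadsOn d) : g • h ∈ hexadsOn (g • d) := by
  obtain ⟨h1, o, ho, rfl⟩ := hh
  exact ⟨by rw [card_smul_finset, h1], g • o, smul_mem_octads hg ho, smul_finset_inter.symm⟩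

theorem quart_smul (hg : g ∈ M24) (hQ : Q ∈ quartets d) : g • Q ∈ quartets (g • d) := by
  refine ⟨by rw [card_smul_finset, hQ.1], fun t ht => ?_, fun t ht u hu ne => ?_⟩
  · obtain ⟨t, ht', rfl⟩ := mem_smul_finset.1 ht
    exact ⟨by rw [card_smul_finset, (hQ.2.1 t ht').1], smul_finset_subset_smul_finset (hQ.2.1 t ht').2⟩
  · obtain ⟨t, ht', rfl⟩ := mem_smul_finset.1 ht
    obtain ⟨u, hu', rfl⟩ := mem_smul_finset.1 hu
    rw [← smul_finset_union]
    exact hex_smul hg (hQ.2.2 t ht' u hu' fun e => ne (e ▸ rfl))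

def isHex (m : ℕ) : Bool := Nat.beq (pop m) 6 && octL.any fun o => Nat.beq (Nat.land o dod0) m

theorem hex_mask (hh : h ∈ hexadsOn (ofMask dod0)) :
    ∃ o ∈ octL, ofMask (Nat.land o dod0) = h ∧ pop (Nat.land o dod0) = 6 := by
  obtain ⟨h1, o, ho, rfl⟩ := hh
  obtain ⟨m, hm, rfl⟩ := mem_octads_iff.1 ho
  exact ⟨m, hm, ofMask_land _ _, by rw [← card_ofMask, ofMask_land, h1]⟩

theorem hex_iff {m : ℕ} (hm : m < 2 ^ 24) : ofMask m ∈ hexadsOn (ofMask dod0) ↔ isHex m = true := by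
  simp only [isHex, Bool.and_eq_true, List.any_eq_true, Nat.beq_eq]
  refine ⟨fun hh => ?_, fun ⟨h1, o, ho, e⟩ => ⟨by rw [card_ofMask, h1], _, mem_octads_iff.2 ⟨o, ho, rfl⟩,
    by rw [← ofMask_land, e]⟩⟩
  obtain ⟨o, ho, e, h6⟩ := hex_mask hh
  have := ofMask_inj (land_lt _ (lt_of_mem_octL ho)) hm e
  exact ⟨this ▸ h6, o, ho, this⟩

def qL : List ℕ := [7, 4120, 327744, 8960]
def Q0 : Finset (Finset GolayPt) := {ofMask 7, ofMask 4120, ofMask 327744, ofMask 8960}
def tau : ℕ := 132224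

theorem mem_Q0 : t ∈ Q0 ↔ ∃ m ∈ qL, ofMask m = t := by simp [Q0, qL, eq_comm]

theorem qL_ok : ∀ m ∈ qL, m < 2 ^ 24 ∧ pop m = 3 ∧ Nat.land m dod0 = m ∧
    ∀ n ∈ qL, m = n ∨ isHex (Nat.lor m n) = true := by decide +kernel

theorem Q0_mem : Q0 ∈ quartets (ofMask dod0) := by
  refine ⟨by decide +kernel, fun t ht => ?_, fun t ht u hu ne => ?_⟩
  · obtain ⟨m, hm, rfl⟩ := mem_Q0.1 ht
    obtain ⟨h1, h2, h3, -⟩ := qL_ok m hm
    exact ⟨by rw [card_ofMask, h2], (ofMask_subset_iff h1).2 h3⟩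
  · obtain ⟨m, hm, rfl⟩ := mem_Q0.1 ht
    obtain ⟨n, hn, rfl⟩ := mem_Q0.1 hu
    rw [← ofMask_lor, hex_iff (lor_lt (qL_ok m hm).1 (qL_ok n hn).1)]
    exact ((qL_ok m hm).2.2.2 n hn).resolve_left fun e => ne (e ▸ rfl)

theorem disj (ht : t.card = 3) (hu : u.card = 3) (hh : t ∪ u ∈ hexadsOn d) : Disjoint t u :=
  card_union_eq_card_add_card.1 (by rw [hh.1, ht, hu])

theorem eq_xor {m : ℕ} (hd : Disjoint (ofMask 7) u) (e : ofMask m = ofMask 7 ∪ u) :
    u = ofMask (Nat.xor 7 m) := by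
  rw [ofMask_xor, e, ← sup_eq_union, ← hd.symmDiff_eq_sup, symmDiff_symmDiff_cancel_left]

theorem chk1 : ∀ o ∈ octL, Nat.land 7 (Nat.land o dod0) = 7 →
    isHex (Nat.lor 4120 (Nat.xor 7 (Nat.land o dod0))) = true → Nat.xor 7 (Nat.land o dod0) ∈ qL := by
  decide +kernel

theorem chk2 : ∀ o ∈ octL, Nat.land 31 (Nat.land o dod0) = 31 → pop (Nat.land o dod0) = 6 →
    Nat.xor 7 (Nat.land o dod0) = 4120 := by decide +kernel

theorem uniq0 (hQ : Q ∈ quartets (ofMask dod0)) (h1 : ofMask 7 ∈ Q) (h2 : ofMask 4120 ∈ Q) : Q = Q0 := by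
  refine eq_of_subset_of_card_le (fun v hv => ?_) (by rw [hQ.1, Q0_mem.1])
  by_cases a : ofMask 7 = v
  · exact mem_Q0.2 ⟨7, by decide, a⟩
  by_cases b : ofMask 4120 = v
  · exact mem_Q0.2 ⟨4120, by decide, b⟩
  have k := hQ.2.2 _ h1 v hv a
  obtain ⟨o, ho, e, -⟩ := hex_mask k
  have e2 := eq_xor (disj (hQ.2.1 _ h1).1 (hQ.2.1 _ hv).1 k) e
  have k2 := hQ.2.2 _ h2 v hv b
  have lt := xor_lt (a := 7) (by norm_num) (land_lt dod0 (lt_of_mem_octL ho))
  rw [e2, ← ofMask_lor, hex_iff (lor_lt (by norm_num) lt)] at k2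
  exact mem_Q0.2 ⟨_, chk1 o ho ((ofMask_subset_iff (by norm_num)).1 (e ▸ subset_union_left)) k2, e2.symm⟩

theorem std (hd : d ∈ dodecads) (ht : t.card = 3) (hu : u.card = 3) (hh : t ∪ u ∈ hexadsOn d) :
    ∃ g ∈ M24, g • ofMask dod0 = d ∧ g • ofMask 7 = t ∧ g • ofMask 4120 = u := by
  have dj := disj ht hu hh
  have sub : t ∪ u ⊆ d := by obtain ⟨-, o, -, e⟩ := hh; rw [← e]; exact inter_subset_right
  obtain ⟨a, b, c, h1, h2, h3, rfl⟩ := card_eq_three.1 ht
  obtain ⟨x, y, z, h4, -, -, e⟩ := card_eq_three.1 hu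
  have hx : x ∈ u := by simp [e]
  have hy : y ∈ u := by simp [e]
  have k := fun w (hw : w ∈ u) => disjoint_right.1 dj hw
  obtain ⟨g, hg, rfl, e1⟩ := std_dod_list hd [a, b, c, x, y] (by simp) (by
    have := k x hx
    have := k y hy
    simp_all [eq_comm]) (fun w hw => sub (by
      simp only [List.mem_cons, List.not_mem_nil, or_false] at hw
      rcases hw with rfl | rfl | rfl | rfl | rfl <;> simp [hx, hy]))
  simp only [List.length_cons, List.length_nil, List.take_succ_cons, List.take_zero, List.map_cons,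
    List.map_nil, List.cons.injEq, and_true, zero_add] at e1
  obtain ⟨rfl, rfl, rfl, rfl, rfl⟩ := e1
  have e7 : g • ofMask 7 = {g (pt 0), g (pt 1), g (pt 2)} := by
    rw [show ofMask 7 = {pt 0, pt 1, pt 2} by decide +kernel, smul_finset_insert, smul_finset_insert,
      smul_finset_singleton]; rfl
  refine ⟨g, hg, rfl, e7, ?_⟩
  obtain ⟨u, rfl⟩ : ∃ v, g • v = u := ⟨_, smul_inv_smul g u⟩
  rw [← e7, ← smul_finset_union] at hh
  have := hex_smul (inv_mem hg) hh
  rw [inv_smul_smul, inv_smul_smul] at this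
  obtain ⟨o, ho, e2, h6⟩ := hex_mask this
  rw [← e7, disjoint_iff_inter_eq_empty, ← smul_finset_inter, smul_finset_eq_empty,
    ← disjoint_iff_inter_eq_empty] at dj
  rw [eq_xor dj e2, chk2 o ho ((ofMask_subset_iff (by norm_num)).1 ?_) h6]
  rw [e2, show ofMask 31 = ofMask 7 ∪ {pt 3, pt 4} by decide +kernel]
  exact union_subset_union_right (insert_subset ((apply_mem_smul_iff g).1 hx)
    (singleton_subset_iff.2 ((apply_mem_smul_iff g).1 hy)))

theorem eq_smul (hg : g ∈ M24) (hQ : Q ∈ quartets (g • ofMask dod0)) (h1 : g • ofMask 7 ∈ Q)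
    (h2 : g • ofMask 4120 ∈ Q) : g • Q0 = Q := by
  have := quart_smul (inv_mem hg) hQ
  rw [inv_smul_smul] at this
  rw [← uniq0 this (inv_smul_mem_iff.1 (by rwa [inv_inv])) (inv_smul_mem_iff.1 (by rwa [inv_inv])),
    smul_inv_smul]

theorem std_q (hd : d ∈ dodecads) (hQ : Q ∈ quartets d) : ∃ g ∈ M24, g • ofMask dod0 = d ∧ g • Q0 = Q := by
  obtain ⟨t, ht, u, hu, ne⟩ := one_lt_card.1 (by rw [hQ.1]; norm_num : 1 < Q.card)
  obtain ⟨g, hg, rfl, rfl, rfl⟩ := std hd (hQ.2.1 t ht).1 (hQ.2.1 u hu).1 (hQ.2.2 t ht u hu ne)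
  exact ⟨g, hg, rfl, eq_smul hg hQ ht hu⟩

/-- The stabiliser of the standard quartet. -/
abbrev K : Subgroup P24 := Spor.M12 ⊓ stabilizer P24 (ofMask tau)

def cK : List (ℕ × List ℕ) := [
  (0, [nat_lit 612192022534891860836018637490883724, nat_lit 838056096552939777374660856307302982]),
  (1, [nat_lit 796313199992319099645021490572887104]),
  (3, [nat_lit 928718206277989008510816407558424608, nat_lit 929000492124499343650182431580424224]),
  (4, [nat_lit 970499966350631336865513127433832480])]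

theorem cK_mem : AllIn K (cgens cK) :=
  allIn_stab_set (M12_eq ▸ allIn_stabM (by decide +kernel)) (by decide +kernel)

theorem card_K : Nat.card K = 432 := card_inf_stab (n := 220) card_M12
  (codS.ncard_orbit M12_eq_pg (pg12_mem.mono M12_le) (by decide +kernel) _ (by decide +kernel))

theorem K_eq : K = genBy (cgens cK) := eq_genBy cK cK_mem (by rw [card_K]; decide +kernel)

theorem chk3 : ∀ s ∈ cgens cK, (∃ m ∈ qL, actM s m = 7) ∧ ∃ m ∈ qL, actM s m = 4120 := by decide +kernel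

theorem chk4 : ∀ m ∈ qL, ∀ n ∈ qL, m = n ∨ ∀ o ∈ octL, Nat.land (Nat.lor m n) o = Nat.lor m n →
    Nat.land o (Nat.lor dod0 tau) = o := by decide +kernel

theorem K_eq' : K = Spor.M12 ⊓ stabilizer P24 Q0 := by
  refine le_antisymm (le_inf inf_le_left (K_eq.trans_le (genBy_le fun s hs => ?_))) fun g ⟨h1, h2⟩ => ⟨h1, ?_⟩
  · obtain ⟨v, h1, -⟩ := cK_mem s hs
    obtain ⟨⟨m, hm, e⟩, n, hn, e'⟩ := chk3 s hs
    have := quart_smul (M12_le h1) Q0_mem
    rw [smul_dod0 h1] at this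
    exact uniq0 this (e ▸ ofMask_actM v m ▸ smul_mem_smul_finset (mem_Q0.2 ⟨m, hm, rfl⟩))
      (e' ▸ ofMask_actM v n ▸ smul_mem_smul_finset (mem_Q0.2 ⟨n, hn, rfl⟩))
  · have key : ∀ m ∈ qL, ∀ n ∈ qL, m ≠ n → ∀ o ∈ octads, ofMask m ∪ ofMask n ⊆ o →
        g • o ⊆ ofMask dod0 ∪ ofMask tau := by
      intro m hm n hn ne o ho hs
      have h3 : ∀ m ∈ qL, g • ofMask m ∈ Q0 := fun m hm =>
        (show g • Q0 = Q0 from h2) ▸ smul_mem_smul_finset (mem_Q0.2 ⟨m, hm, rfl⟩)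
      obtain ⟨m', hm', e1⟩ := mem_Q0.1 (h3 m hm)
      obtain ⟨n', hn', e2⟩ := mem_Q0.1 (h3 n hn)
      obtain ⟨o', ho', e3⟩ := mem_octads_iff.1 (smul_mem_octads (M12_le h1) ho)
      rw [← e3, ← ofMask_lor, ofMask_subset_iff (lt_of_mem_octL ho')]
      refine (chk4 m' hm' n' hn').resolve_left ?_ o' ho'
        ((ofMask_subset_iff (lor_lt (qL_ok _ hm').1 (qL_ok _ hn').1)).1 ?_)
      · rintro rfl
        exact ne (ofMask_inj (qL_ok _ hm).1 (qL_ok _ hn).1 (MulAction.injective g (e1.symm.trans e2)))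
      · rw [ofMask_lor, e1, e2, e3, ← smul_finset_union]
        exact smul_finset_subset_smul_finset hs
    have a := key 7 (by decide) 4120 (by decide) (by decide) _
      (ofMask_mem_octads (m := 5279) (by decide +kernel)) (by decide +kernel)
    have b := key 7 (by decide) 327744 (by decide) (by decide) _
      (ofMask_mem_octads (m := 459847) (by decide +kernel)) (by decide +kernel)
    refine eq_of_subset_of_card_le (fun y hy => ?_) (card_smul_finset _ _).ge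
    obtain ⟨x, hx, rfl⟩ := mem_smul_finset.1 hy
    have c : ∀ x ∈ ofMask tau, x ∉ ofMask dod0 ∧ (x ∈ ofMask 5279 ∨ x ∈ ofMask 459847) := by decide +kernel
    refine (mem_union.1 ((c x hx).2.elim (fun k => a (smul_mem_smul_finset k))
      fun k => b (smul_mem_smul_finset k))).resolve_left fun k => (c x hx).1 ?_
    exact (apply_mem_iff (smul_dod0 h1) x).1 k

theorem quartets_eq : quartets (ofMask dod0) = orbit Spor.M12 Q0 := by
  ext Q
  rw [mem_orbit_sub]
  refine ⟨fun hQ => ?_, ?_⟩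
  · obtain ⟨g, hg, e1, e2⟩ := std_q dod0_mem hQ
    exact ⟨g, mem_M12.2 ⟨hg, e1⟩, e2⟩
  · rintro ⟨g, hg, rfl⟩
    exact smul_dod0 hg ▸ quart_smul (M12_le hg) Q0_mem

theorem ncard_q (hd : d ∈ dodecads) : (quartets d).ncard = 220 := by
  obtain ⟨g, hg, rfl⟩ := dodecad_trans hd
  rw [ncard_smul_eq g (quartets (ofMask dod0)) _ fun Q => ⟨fun h => by
    simpa using quart_smul (inv_mem hg) h, quart_smul hg⟩, quartets_eq]
  have := card_eq_orbit_mul Spor.M12 Q0
  rw [← K_eq', card_K, card_M12] at this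
  omega

theorem conj_iff (hg : g ∈ M24) (x : M24) :
    x ∈ stabilizer M24 (g • ofMask dod0) ⊓ stabilizer M24 (g • Q0) ↔ g⁻¹ * x * g ∈ K := by
  rw [K_eq', Subgroup.mem_inf, Subgroup.mem_inf, mem_M12, mem_stab_set, mem_stab_set, smul_smul_eq_iff_conj,
    smul_smul_eq_iff_conj]
  exact ⟨fun h => ⟨⟨conj_mem_M24 hg x, h.1⟩, h.2⟩, fun h => ⟨h.1.2, h.2⟩⟩

theorem K_le : K ≤ M24 := inf_le_left.trans M12_le

theorem orb_K {r n : ℕ} (hr : inStab [dod0] r = true)
    (h : bfs actM syn (cgens cK) (fun _ => true) (fun m _ => Nat.beq m n) (n + 1) (actM r tau) = true) :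
    toPerm r • Q0 ∈ quartets (ofMask dod0) ∧ (orbit K (toPerm r • Q0)).ncard = n := by
  obtain ⟨v, h1⟩ := allIn_stabM (ms := [dod0]) (gs := [r]) (by simpa using hr) r (by simp)
  rw [← M12_eq] at h1
  refine ⟨quartets_eq ▸ mem_orbit_sub.2 ⟨_, h1, rfl⟩, ?_⟩
  have a := codS.ncard_orbit K_eq (cK_mem.mono K_le) ⟨actM_lt v _, by rw [pop_actM v]; decide +kernel⟩ n h
  have b := card_eq_orbit_mul K (toPerm r • Q0)
  have c := card_eq_orbit_mul K (ofMask (actM r tau))
  have e : K ⊓ stabilizer P24 (toPerm r • Q0) = K ⊓ stabilizer P24 (ofMask (actM r tau)) := by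
    ext x
    rw [Subgroup.mem_inf, Subgroup.mem_inf]
    refine and_congr_right fun hx => ?_
    have m : (toPerm r)⁻¹ * x * toPerm r ∈ Spor.M12 := mul_mem (mul_mem (inv_mem h1) hx.1) h1
    have := SetLike.ext_iff.1 K_eq' ((toPerm r)⁻¹ * x * toPerm r)
    simp only [Subgroup.mem_inf, m, true_and, mem_stabilizer_iff] at this
    rw [ofMask_actM v]
    show x • _ • _ = _ ↔ x • _ • _ = _
    rw [smul_smul_eq_iff_conj, smul_smul_eq_iff_conj, this]
  rw [a, ← e, b] at c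
  exact Nat.eq_of_mul_eq_mul_right Nat.card_pos c

theorem K_trans {p : GolayPt} (hp : p ∈ ofMask dod0) : ∃ k ∈ K, k (pt 0) = p :=
  exists_of_tb_orbPt cK_mem (by norm_num) ((show orbPt (cgens cK) 0 = dod0 by decide +kernel) ▸ hp)

def lab (i : ℕ) : Fin 2 → ZMod 3 := ([![0, 0], ![0, 0], ![0, 0], ![0, 0], ![0, 0], ![0, 0], ![0, 0],
  ![0, 0], ![0, 0], ![0, 0], ![0, 0], ![1, 0], ![0, 0], ![0, 0], ![2, 1], ![0, 1], ![0, 0], ![0, 0], ![0, 0],
  ![0, 2], ![2, 0], ![2, 2], ![1, 1], ![1, 2]] : List (Fin 2 → ZMod 3)).getD i 0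

def U : ℕ := 16304160

abbrev GL23 : Type := GL (Fin 2) (ZMod 3)

def Aff (g : P24) (h : GL23) : Prop := ∀ p ∈ ofMask U, g p ∈ ofMask U ∧
  ∀ q ∈ ofMask U, lab (ix (g p)) - lab (ix (g q)) = h • (lab (ix p) - lab (ix q))

def Gr : Subgroup (P24 × GL23) where
  carrier := {x | Aff x.1 x.2}
  one_mem' := fun p hp => ⟨hp, fun q _ => by simp⟩
  mul_mem' := fun {a b} h1 h2 p hp => ⟨(h1 _ (h2 p hp).1).1, fun q hq => by
    rw [Prod.snd_mul, mul_smul, ← (h2 p hp).2 q hq]; exact (h1 _ (h2 p hp).1).2 _ (h2 q hq).1⟩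
  inv_mem' := fun {a} h1 => by
    have k : ∀ p ∈ ofMask U, a.1⁻¹ p ∈ ofMask U := fun p hp => by
      have e : a.1 • ofMask U = ofMask U := eq_of_subset_of_card_le (fun y hy => by
        obtain ⟨x, hx, rfl⟩ := mem_smul_finset.1 hy; exact (h1 x hx).1) (card_smul_finset _ _).ge
      exact (apply_mem_iff e _).1 (by simpa using hp)
    refine fun p hp => ⟨k p hp, fun q hq => ?_⟩
    have := (h1 _ (k p hp)).2 _ (k q hq)
    simp only [Equiv.Perm.coe_inv, Equiv.apply_symm_apply] at this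
    rw [this, Prod.snd_inv, inv_smul_smul]; rfl

theorem aff_of {s : ℕ} (v : valid s = true) {h : GL23} (k : ∀ i < 24, tb U i = true → tb U (ap s i) = true ∧
    ∀ j < 24, tb U j = true → lab (ap s i) - lab (ap s j) = h • (lab i - lab j)) : Aff (toPerm s) h := by
  intro p hp
  have m : ∀ p ∈ ofMask U, tb U (ix p) = true := fun p hp => (tb_iff (ix_lt p)).2 (by rwa [pt_ix])
  obtain ⟨a, b⟩ := k _ (ix_lt p) (m p hp)
  rw [← ix_toPerm v, tb_iff (ix_lt _), pt_ix] at a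
  exact ⟨a, fun q hq => by rw [ix_toPerm v, ix_toPerm v]; exact b _ (ix_lt q) (m q hq)⟩

theorem aff_K (hg : g ∈ K) : ∃ h, Aff g h := by
  have : K ≤ Gr.map (MonoidHom.fst _ _) := K_eq.trans_le (genBy_le fun s hs => by
    have v := (cK_mem s hs).1
    suffices ∃ h, Aff (toPerm s) h from this.elim fun h k => ⟨(_, h), k, rfl⟩
    simp only [cgens, cK, List.flatMap_cons, List.flatMap_nil, List.cons_append, List.nil_append,
      List.mem_cons, List.not_mem_nil, or_false] at hs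
    rcases hs with rfl | rfl | rfl | rfl | rfl | rfl
    exacts [⟨.mkOfDetNeZero !![1, 1; 1, 2] (by decide +kernel), aff_of v (by decide +kernel)⟩,
      ⟨.mkOfDetNeZero !![1, 2; 2, 0] (by decide +kernel), aff_of v (by decide +kernel)⟩,
      ⟨.mkOfDetNeZero !![2, 0; 2, 2] (by decide +kernel), aff_of v (by decide +kernel)⟩,
      ⟨.mkOfDetNeZero !![1, 0; 0, 1] (by decide +kernel), aff_of v (by decide +kernel)⟩,
      ⟨.mkOfDetNeZero !![1, 0; 1, 1] (by decide +kernel), aff_of v (by decide +kernel)⟩,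
      ⟨.mkOfDetNeZero !![1, 0; 1, 2] (by decide +kernel), aff_of v (by decide +kernel)⟩])
  obtain ⟨x, hx, rfl⟩ := this hg
  exact ⟨_, hx⟩

theorem Aff.uniq {h h' : GL23} (a : Aff g h) (b : Aff g h') : h = h' := by
  have k : ∀ p ∈ ofMask U, h • lab (ix p) = h' • lab (ix p) := fun p hp => by
    have m : pt 5 ∈ ofMask U := by decide +kernel
    have := ((a p hp).2 _ m).symm.trans ((b p hp).2 _ m)
    rwa [show lab (ix (pt 5)) = 0 by decide +kernel, sub_zero] at this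
  have h1 := k (pt 11) (by decide +kernel)
  have h2 := k (pt 15) (by decide +kernel)
  rw [show lab (ix (pt 11)) = Pi.single 0 1 by decide +kernel] at h1
  rw [show lab (ix (pt 15)) = Pi.single 1 1 by decide +kernel] at h2
  simp only [Units.smul_def, Matrix.smul_eq_mulVec, Matrix.mulVec_single_one] at h1 h2
  ext i j
  fin_cases j
  exacts [congrFun h1 i, congrFun h2 i]

noncomputable def φ : K →* GL23 := MonoidHom.mk' (fun g => (aff_K g.2).choose) fun a b =>
  (aff_K (a * b).2).choose_spec.uniq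
    (Gr.mul_mem (x := (a.1, _)) (y := (b.1, _)) (aff_K a.2).choose_spec (aff_K b.2).choose_spec)

theorem φ_surj : Function.Surjective φ ∧ Nat.card φ.ker = 9 := by
  refine surjective_of_card_ker_le φ ?_ (by rw [card_K, card_GL23])
  have m : pt 5 ∈ ofMask U := by decide +kernel
  have a : ∀ g : φ.ker, Aff g.1.1 1 := fun g => by
    have : Aff g.1.1 (φ g.1) := (aff_K g.1.2).choose_spec
    rwa [show φ g.1 = 1 from g.2] at this
  have li : ∀ p ∈ ofMask U, ∀ q ∈ ofMask U, lab (ix p) = lab (ix q) → p = q := by decide +kernel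
  refine (Nat.card_le_card_of_injective (fun g : φ.ker => (⟨g.1.1 (pt 5), (a g _ m).1⟩ : ofMask U))
    fun x y e => Subtype.ext (Subtype.ext ?_)).trans (by
      rw [Nat.card_eq_fintype_card, Fintype.card_coe, card_ofMask]; decide +kernel)
  have e' : x.1.1 (pt 5) = y.1.1 (pt 5) := congrArg Subtype.val e
  rw [eq_comm, ← inv_mul_eq_one]
  refine eq_one_of_sepAll (F := U) (K_le (mul_mem (inv_mem y.1.2) x.1.2)) [12222476, 14254209, 16262146,
    12075408, 11952160, 11654144, 9486564, 13811730] (by decide +kernel) fun p hp => ?_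
  rw [Equiv.Perm.mul_apply, Equiv.Perm.inv_eq_iff_eq]
  refine li _ (a x p hp).1 _ (a y p hp).1 ?_
  have := ((a x p hp).2 _ m).trans ((a y p hp).2 _ m).symm
  rwa [e', sub_left_inj] at this

end H6.Quart
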