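/- Peterfalvi, section 12 from (6.8), (10.10) and (11.9.c). -/
import Cfsg.Agent.H6.Sec12Grp
import Cfsg.Agent.H45.Sec12d

set_option autoImplicit false
open Cfsg H46 Subgroup H6
namespace H6
universe u
variable {G : Type u} [Group G] [Finite G]

/-- (12.8) - (12.12); `h5` is (10.10), `hcyc` comes from (11.9.c). -/
theorem FT.exists_nonFrob (hG : FT G) (h5 : ∀ M : Subgroup G, IsCoatom M → ¬ IsOfTypeV M)
    (hcyc : ∀ M W₁ U W₂ : Subgroup G, IsCoatom M → IsTypePWith M W₁ U W₂ → ¬ IsOfTypeII M → IsCyclic U)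
    {M₀ : Subgroup G} (hM : IsCoatom M₀) (hI : IsOfTypeI M₀)
    (hF : ¬ ∃ E, IsFrob (fittingHallOf M₀) E M₀) : ∃ M L E p x g₀, NonFrob (G := G) M L E p x g₀ := by
  obtain ⟨M, L, E, p, x, a, b, c, d, e, f, g, h, i, j, k, l, m, n, o, q⟩ :=
    hG.exists_raw12 h5 hcyc hM hI hF
  obtain ⟨g₀, h0⟩ := H45.nonFrob_mk hG a b c d e f g h i j k l m n o q
  exact ⟨M, L, E, p, x, g₀, h0⟩

/-- The exports of section 12. -/
theorem FT.in12 (hG : FT G) (hS : H45.SibleyFrob G) (h5 : ∀ M : Subgroup G, IsCoatom M → ¬ IsOfTypeV M)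
    (hcyc : ∀ M W₁ U W₂ : Subgroup G, IsCoatom M → IsTypePWith M W₁ U W₂ → ¬ IsOfTypeII M → IsCyclic U) :
    H42.In12 G :=
  H45.in12_of hG hS fun _ hM hI hF => hG.exists_nonFrob h5 hcyc hM hI hF

end H6
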