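import Cfsg.Agent.H67.SPIII
import Cfsg.Agent.H78.S2Kit

/-! STD-SP chapter III: `JobT1a`. -/

set_option autoImplicit false
set_option linter.unusedSectionVars false

namespace H6.Sp3T1a

open H64.SG (Cz Cs mem_Cz)
open H67.UA hiding Par
open H67.SP
open H67.SA (cm la)
open H86.SPI (hf_self hf_comm hf_smul_right' TT_conj qq_conj)
open H78.S2 (ac_Tc' ac_Tc_fix ac_qq' ac_qq_fix Tc_mul Tc_sq Tc_inj li_ne li_symm qq_smul')
open Subgroup

universe u

section Gen

variable {X : Type} [Group X] {G : Type u} [Group G] {e : X →* G} {t : G}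

theorem th_list {ι : Type} (S : Subgroup X) (a : ι → G) (m : ι → X) (L : List ι)
    (h : ∀ i ∈ L, a i ∈ Cs (S.map e) ∧ m i ∈ S ∧ a i * t * (a i)⁻¹ = t * e (m i)) :
    (L.map a).prod ∈ Cs (S.map e) ∧ (L.map m).prod ∈ S ∧
      (L.map a).prod * t * (L.map a).prod⁻¹ = t * e (L.map m).prod := by
  induction L with
  | nil => simp
  | cons i L ih =>
    obtain ⟨h1, h2, h3⟩ := h i (by simp)
    obtain ⟨k1, k2, k3⟩ := ih fun j hj => h j (by simp [hj])
    simp only [List.map_cons, List.prod_cons]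
    refine ⟨mul_mem h1 k1, mul_mem h2 k2, ?_⟩
    have k4 := h1 _ ⟨_, k2, rfl⟩
    calc _ = a i * ((L.map a).prod * t * (L.map a).prod⁻¹) * (a i)⁻¹ := by group
      _ = a i * t * (a i)⁻¹ * (a i * e (L.map m).prod * (a i)⁻¹) := by rw [k3]; group
      _ = _ := by rw [h3, ← k4, map_mul]; group

theorem cm_list {ι : Type} (S : Subgroup X) (b : G) (a : ι → G) (m : ι → X) (L : List ι)
    (h : ∀ i ∈ L, a i ∈ Cs (S.map e) ∧ m i ∈ S ∧ cm b (a i) = e (m i)) :
    (L.map m).prod ∈ S ∧ cm b (L.map a).prod = e (L.map m).prod := by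
  induction L with
  | nil => simp [cm]
  | cons i L ih =>
    obtain ⟨h1, h2, h3⟩ := h i (by simp)
    obtain ⟨k2, k3⟩ := ih fun j hj => h j (by simp [hj])
    simp only [List.map_cons, List.prod_cons]
    refine ⟨mul_mem h2 k2, ?_⟩
    have k4 := h1 _ ⟨_, k2, rfl⟩
    calc _ = cm b (a i) * (a i * cm b (L.map a).prod * (a i)⁻¹) := by simp only [cm]; group
      _ = _ := by rw [h3, k3, ← k4, map_mul]; group

end Gen

variable {n : ℕ} {F : Type} [Field F] [StarRing F] [TrivialStar F] [CharP F 2] [Finite F] [Par n F]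
  {G : Type u} [Group G] {e : XU n F →* G} {t : G} {τ : Vn n F → G} {u v w : Vn n F}

theorem ac_ne {g : XU n F} (h : v ≠ 0) : ac g v ≠ 0 := fun e =>
  h (ac_inj g (e.trans (ac_zero g).symm))

theorem Tc_cj (g : XU n F) (c : F) (v : Vn n F) : g * Tc c v * g⁻¹ = Tc c (ac g v) :=
  Tc_conj (hf_self v) (star_trivial c) g

theorem hf_sm (h : hf u v = 0) (c : F) : hf (c • v) u = 0 := by
  rw [hf_smul_left, hf_symm h, mul_zero]

theorem ac_m2 (h : hf u v = 0) (a b c : F) (y : Vn n F) : ac (m2 u v a b c) y =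
    y + (a * hf y u + c * hf y v) • u + (b * hf y v + c * hf y u) • v := by
  simp only [m2, ac_mul, ac_Tc', ac_qq' (hf_sm h c), hf_add_left, hf_smul_left, hf_smul_right',
    hf_self, h, hf_symm h, mul_zero, add_zero]
  ext i
  simp only [Pi.add_apply, Pi.smul_apply, smul_eq_mul]
  ring

theorem m2_fix (h : hf u v = 0) (a b c : F) {y : Vn n F} (h1 : hf y u = 0) (h2 : hf y v = 0) :
    ac (m2 u v a b c) y = y := by simp [ac_m2 h, h1, h2]

theorem m2_sq (h : hf u v = 0) (a b c : F) : m2 u v a b c * m2 u v a b c = 1 := ac_ext fun y => by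
  simp only [ac_mul, ac_m2 h, hf_add_left, hf_smul_left, hf_self, h, hf_symm h, mul_zero, add_zero,
    ac_one]
  ext i
  simp only [Pi.add_apply, Pi.smul_apply, smul_eq_mul]
  linear_combination ((a * hf y u + c * hf y v) * u i + (b * hf y v + c * hf y u) * v i) *
    (CharTwo.two_eq_zero (R := F))

theorem m2_swap (h : hf u v = 0) (a b c : F) : m2 v u a b c = m2 u v b a c := ac_ext fun y => by
  rw [ac_m2 h, ac_m2 (hf_symm h), add_right_comm]

theorem m2_cj (h : hf u v = 0) (a b c : F) (g : XU n F) :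
    g * m2 u v a b c * g⁻¹ = m2 (ac g u) (ac g v) a b c := by
  rw [m2, m2, ← ac_smul, ← Tc_cj, ← Tc_cj, ← qq_conj g (hf_sm h c)]
  group

theorem exists_R0 [FW n F] (aw : AW e t) (tr : Tr e t 0) : ∃ τ, R0 e τ ∧ Tt e τ t := by
  classical
  obtain ⟨w, c1, c2, c4⟩ := tr 1
  rw [one_smul] at c2
  have c5 : SS n F ≤ (Cz w).comap e := FW.genS _ fun y hy => by
    have := c4 y hy.1 hy.2
    simp only [zero_mul, zero_smul, ne_eq, OfNat.ofNat_ne_zero, not_false_eq_true, zero_pow,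
      EE_zero, mul_one] at this
    exact mem_Cz.2 (mul_inv_eq_iff_eq_mul.1 this)
  have c3 : ∀ p, ac p (ev 0) = ev 0 → e p * w * (e p)⁻¹ = w := fun p hp => by
    obtain ⟨u, hu, s, hs, rfl⟩ := FW.ps p hp
    have h1 : e u * w = w * e u := c1 _ ⟨u, hu, rfl⟩
    have h2 : w * e s = e s * w := mem_Cz.1 (c5 hs)
    rw [mul_inv_eq_iff_eq_mul, map_mul, mul_assoc, ← h2, ← mul_assoc, h1, mul_assoc]
  choose! γ hγ using FW.w1 (n := n) (F := F)
  let τ : Vn n F → G := fun v => if v ≠ 0 then e (γ v) * w * (e (γ v))⁻¹ else 1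
  have k1 : ∀ g, τ (ac g (ev 0)) = e g * w * (e g)⁻¹ := fun g => by
    have h1 : ac g (ev 0) ≠ 0 := ac_ne (ev_ne 0)
    have h3 := c3 (g⁻¹ * γ (ac g (ev 0))) (by rw [ac_mul, hγ _ h1, ac_inv_ac])
    simp only [τ, if_pos h1]
    nth_rewrite 2 [← h3]
    rw [map_mul, map_inv]; group
  have k0 : τ 0 = 1 := if_neg fun h => h rfl
  have k2 : ∀ {P : Vn n F → Prop}, P 0 → (∀ g, P (ac g (ev 0))) → ∀ v, P v :=
    fun h1 h2 v => by
      by_cases h3 : v = 0
      · exact h3 ▸ h1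
      · exact hγ v h3 ▸ h2 _
  refine ⟨τ, ⟨k0, fun g => k2 (by simp [k0]) fun g' => ?_⟩, k2 (by simp [k0]) fun g => ?_⟩
  · rw [← ac_mul, k1, k1, map_mul]; group
  · rw [k1, ← TT_conj, map_mul, map_mul, map_inv]
    have h1 : (e g)⁻¹ * t * e g = t := by rw [mul_assoc, aw.cen, inv_mul_cancel_left]
    calc _ = e g * (w * ((e g)⁻¹ * t * e g) * w⁻¹) * (e g)⁻¹ := by group
      _ = _ := by rw [h1, c2, ← mul_assoc (e g), ← aw.cen]; group

theorem noT (aw : AW e t) (r : R0 e τ) (tt : Tt e τ t) (hu : u ≠ 0) {m : XU n F} (hm : ac m u = u)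
    (h : τ u * (t * e m) = t * e m * τ u) : False := by
  have h1 := tt u
  rw [← mul_assoc, mul_assoc t, r.fix hm, ← mul_assoc, mul_left_inj] at h
  rw [h, mul_inv_cancel_right, left_eq_mul, ← map_one e] at h1
  exact one_ne_zero (Tc_eq_one hu (hf_self u) (star_one F) (aw.inj h1))

theorem exists_sq [FW n F] (aw : AW e t) (r : R0 e τ) (tt : Tt e τ t) : ∃ ρ, Sq e τ ρ := by
  have h0 : (ev 0 : Vn n F) ≠ 0 := ev_ne 0
  have h1 := r.fix (g := TT (ev 0)) (ac_Tc_fix 1 (hf_self (ev 0)))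
  obtain ⟨ρ, h | h⟩ := aw.v1 (τ (ev 0) * τ (ev 0)) (ev 0) h0 (by
    rw [← mul_inv_eq_iff_eq_mul]
    calc _ = τ (ev 0) * (τ (ev 0) * t * (τ (ev 0))⁻¹) * (τ (ev 0))⁻¹ := by group
      _ = τ (ev 0) * t * (τ (ev 0))⁻¹ * (τ (ev 0) * e (TT (ev 0)) * (τ (ev 0))⁻¹) := by
        nth_rewrite 1 [tt]; group
      _ = _ := by rw [tt, ← h1, mul_inv_cancel_right, mul_assoc, ← map_mul, Tc_sq, map_one, mul_one])
    (fun p hp => by rw [mul_assoc, ← r.fix hp, ← mul_assoc, ← r.fix hp, mul_assoc])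
  · refine ⟨ρ, fun v => ?_⟩
    by_cases hv : v = 0
    · simp [hv, r.zero]
    · obtain ⟨g, rfl⟩ := FW.w1 v hv
      rw [← r.eqv, ← Tc_cj, map_mul, map_mul, map_inv, ← h]; group
  · exact (noT aw r tt h0 (ac_Tc_fix ρ (hf_self _)) (by rw [← h, mul_assoc])).elim

theorem cm_m2 (aw : AW e t) (r : R0 e τ) (tt : Tt e τ t) {ρ : F} (sq : Sq e τ ρ) (h : hf u v = 0)
    (l : Li u v) : ∃ a b c, cm (τ u) (τ v) = e (m2 u v a b c) := by
  have hs := hf_symm h
  have f1 := r.fix (g := TT v) (ac_Tc_fix 1 h)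
  have f2 := r.fix (g := TT u) (ac_Tc_fix 1 hs)
  have f3 := r.fix (g := TT u) (ac_Tc_fix 1 (hf_self u))
  have f4 := r.fix (g := TT v) (ac_Tc_fix 1 (hf_self v))
  have f5 : TT v * TT u = TT u * TT v := by
    rw [← mul_inv_eq_iff_eq_mul, TT_conj, ac_Tc_fix 1 h]
  have a1 : τ u * τ v * t * (τ u * τ v)⁻¹ = t * e (TT u * TT v) := by
    calc _ = τ u * (τ v * t * (τ v)⁻¹) * (τ u)⁻¹ := by group
      _ = τ u * t * (τ u)⁻¹ * (τ u * e (TT v) * (τ u)⁻¹) := by rw [tt]; group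
      _ = _ := by rw [tt, ← f1, map_mul]; group
  have a2 : τ v * τ u * t * (τ v * τ u)⁻¹ = t * e (TT u * TT v) := by
    calc _ = τ v * (τ u * t * (τ u)⁻¹) * (τ v)⁻¹ := by group
      _ = τ v * t * (τ v)⁻¹ * (τ v * e (TT u) * (τ v)⁻¹) := by rw [tt]; group
      _ = _ := by rw [tt, ← f2, ← f5, map_mul]; group
  have cp : ∀ p, ac p u = u → ac p v = v → cm (τ u) (τ v) * e p = e p * cm (τ u) (τ v) :=
    fun p h1 h2 => by
      rw [eq_comm, ← mul_inv_eq_iff_eq_mul]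
      calc _ = cm (e p * τ u * (e p)⁻¹) (e p * τ v * (e p)⁻¹) := by simp only [cm]; group
        _ = _ := by rw [r.eqv, r.eqv, h1, h2]
  have a3 := cp (TT u * TT v) (by rw [ac_mul, ac_Tc_fix 1 h, ac_Tc_fix 1 (hf_self u)])
    (by rw [ac_mul, ac_Tc_fix 1 (hf_self v), ac_Tc_fix 1 hs])
  have a4 : cm (τ u) (τ v) * (t * e (TT u * TT v)) = t * e (TT u * TT v) * cm (τ u) (τ v) := by
    nth_rewrite 1 [← a2]
    rw [← a1]; simp only [cm]; group
  obtain ⟨a, b, c, k | k⟩ := aw.v2 (cm (τ u) (τ v)) u v h l (by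
    rw [← mul_assoc, mul_assoc t, ← a3, ← mul_assoc, mul_left_inj] at a4; exact a4) cp
  · exact ⟨a, b, c, k⟩
  · refine (noT aw r tt (li_ne l) (m2_fix h a b c (hf_self u) h) ?_).elim
    have b1 : cm (τ u) (τ v) * cm (τ u) (τ v) = 1 := by
      rw [k, mul_assoc, ← mul_assoc (e _), ← aw.cen, mul_assoc, ← map_mul, m2_sq h, map_one, mul_one,
        aw.tt]
    have b2 := r.fix (g := Tc ρ u) (ac_Tc_fix ρ hs)
    rw [← sq] at b2
    rw [← k, ← mul_inv_eq_iff_eq_mul]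
    nth_rewrite 2 [← inv_eq_of_mul_eq_one_right b1]
    calc _ = τ u * τ u * τ v * ((τ u)⁻¹ * (τ v)⁻¹ * (τ u)⁻¹) := by simp only [cm]; group
      _ = _ := by rw [b2]; simp only [cm]; group

theorem p3 : P3 (ev 0 : Vn n F) (ev 1) (ev 2) := by
  have h := Par.five (n := n) (F := F)
  refine ⟨?_, ?_, ?_⟩ <;> rw [H54.SPF.hf_evv, if_neg] <;>
    simp [H54.SPF.m1 h, H54.SPF.m2 h] <;> omega

theorem li3 : Li3 (ev 0 : Vn n F) (ev 1) (ev 2) := fun a b c k => by
  have h := Par.five (n := n) (F := F)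
  have h01 : (0 : Fin (n + 1)) ≠ 1 := by simp [Fin.ext_iff, H54.SPF.m1 h]
  have h02 : (0 : Fin (n + 1)) ≠ 2 := by simp [Fin.ext_iff, H54.SPF.m2 h]
  have h12 : (1 : Fin (n + 1)) ≠ 2 := by simp [Fin.ext_iff, H54.SPF.m1 h, H54.SPF.m2 h]
  have k0 := congrFun k 0
  have k1 := congrFun k 1
  have k2 := congrFun k 2
  simp [ev_apply, h01, h02, h12, h01.symm, h02.symm, h12.symm] at k0 k1 k2
  exact ⟨k0, k1, k2⟩

theorem li2 : Li (ev 0 : Vn n F) (ev 1) := fun a b k =>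
  have := li3 (n := n) a b 0 (by simpa using k)
  ⟨this.1, this.2.1⟩

theorem exists_ab [FW n F] (aw : AW e t) (r : R0 e τ) (tt : Tt e τ t) {ρ : F} (sq : Sq e τ ρ) :
    ∃ α β, ∀ u v, hf u v = 0 → Li u v → cm (τ u) (τ v) = e (m2 u v α α β) := by
  have h := (p3 (n := n) (F := F)).uv
  obtain ⟨a, b, c, k⟩ := cm_m2 aw r tt sq h li2
  have k1 : ∀ u v, hf u v = 0 → Li u v → cm (τ u) (τ v) = e (m2 u v a b c) := fun u v h1 h2 => by
    obtain ⟨g, rfl, rfl⟩ := FW.w2 u v h1 h2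
    rw [← r.eqv, ← r.eqv, ← m2_cj h, map_mul, map_mul, map_inv, ← k]
    simp only [cm]; group
  have k2 := k1 _ _ (hf_symm h) (li_symm li2)
  rw [m2_swap h, show cm (τ (ev 1)) (τ (ev 0)) = (cm (τ (ev 0)) (τ (ev 1)))⁻¹ by
    simp only [cm]; group, k, ← map_inv, inv_eq_of_mul_eq_one_right (m2_sq h a b c)] at k2
  obtain ⟨rfl, -⟩ := aw.uq2 _ _ _ _ _ _ _ _ h li2 (aw.inj k2)
  exact ⟨a, c, k1⟩

theorem prod7 (p : P3 u v w) :
    ([u, v, w, u + v, u + w, v + w, u + v + w].map TT).prod = 1 := ac_ext fun y => by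
  simp only [List.map_cons, List.map_nil, List.prod_cons, List.prod_nil, mul_one, ac_mul, ac_Tc',
    hf_add_left, hf_add_right, hf_smul_left, hf_self, p.uv, p.uw, p.vw, hf_symm p.uv, hf_symm p.uw,
    hf_symm p.vw, mul_zero, add_zero, one_mul, ac_one]
  ext i
  simp only [Pi.add_apply, Pi.smul_apply, smul_eq_mul]
  have h2 : (2 : F) = 0 := CharTwo.two_eq_zero
  linear_combination (2 * (hf y u * u i + hf y v * v i + hf y w * w i) +
    (hf y u * v i + hf y v * u i + hf y u * w i + hf y w * u i + hf y v * w i + hf y w * v i)) * h2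

theorem prod6 (p : P3 u v w) (α β : F) :
    ([v, w, u + v, u + w, v + w, u + v + w].map fun x => m2 u x α α β).prod = Tc α u :=
  ac_ext fun y => by
  have h1 : hf u (u + v) = 0 := by rw [hf_add_right, hf_self, p.uv, add_zero]
  have h2 : hf u (u + w) = 0 := by rw [hf_add_right, hf_self, p.uw, add_zero]
  have h3 : hf u (v + w) = 0 := by rw [hf_add_right, p.uw, p.uv, add_zero]
  have h4 : hf u (u + v + w) = 0 := by rw [hf_add_right, h1, p.uw, add_zero]
  simp only [List.map_cons, List.map_nil, List.prod_cons, List.prod_nil, mul_one, ac_mul, ac_Tc',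
    ac_m2 p.uv, ac_m2 p.uw, ac_m2 h1, ac_m2 h2, ac_m2 h3, ac_m2 h4,
    hf_add_left, hf_add_right, hf_smul_left, hf_self, p.uv, p.uw, p.vw, hf_symm p.uv, hf_symm p.uw,
    hf_symm p.vw, mul_zero, add_zero]
  ext i
  simp only [Pi.add_apply, Pi.smul_apply, smul_eq_mul]
  have h : (2 : F) = 0 := CharTwo.two_eq_zero
  linear_combination (α * (4 * hf y u * u i + 2 * (hf y v * v i + hf y w * w i) +
    (hf y u * v i + hf y v * u i + hf y u * w i + hf y w * u i + hf y v * w i + hf y w * v i)) +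
    β * (3 * hf y u * u i + 2 * (hf y v * u i + hf y w * u i + hf y u * v i + hf y u * w i))) * h

theorem alpha (aw : AW e t) (r : R0 e τ) (tt : Tt e τ t) {α β : F}
    (k : ∀ u v, hf u v = 0 → Li u v → cm (τ u) (τ v) = e (m2 u v α α β)) (p : P3 u v w)
    (l : Li3 u v w) : α = 0 ∨ α = 1 := by
  let S : Subgroup (XU n F) := Stab u ⊓ Stab v ⊓ Stab w
  have hu : u ≠ 0 := fun h => one_ne_zero (l 1 0 0 (by simp [h])).1
  have q : ∀ x ∈ [u, v, w, u + v, u + w, v + w, u + v + w],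
      (hf u x = 0 ∧ hf v x = 0 ∧ hf w x = 0) ∧ τ x ∈ Cs (S.map e) := by
    intro x hx
    refine ⟨?_, ?_⟩
    · simp only [List.mem_cons, List.not_mem_nil, or_false] at hx
      rcases hx with rfl | rfl | rfl | rfl | rfl | rfl | rfl <;>
        simp [hf_add_right, hf_self, p.uv, p.uw, p.vw, hf_symm p.uv, hf_symm p.uw, hf_symm p.vw]
    · rintro _ ⟨g, ⟨⟨g1, g2⟩, g3⟩, rfl⟩
      have g1 : ac g u = u := g1
      have g2 : ac g v = v := g2
      have g3 : ac g w = w := g3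
      refine r.fix ?_
      simp only [List.mem_cons, List.not_mem_nil, or_false] at hx
      rcases hx with rfl | rfl | rfl | rfl | rfl | rfl | rfl <;> simp only [ac_add, g1, g2, g3]
  obtain ⟨a1, -, a2⟩ := th_list (t := t) S τ TT _ fun x hx => ⟨(q x hx).2,
    ⟨⟨ac_Tc_fix 1 (q x hx).1.1, ac_Tc_fix 1 (q x hx).1.2.1⟩, ac_Tc_fix 1 (q x hx).1.2.2⟩, tt x⟩
  rw [prod7 p, map_one, mul_one, mul_inv_eq_iff_eq_mul] at a2
  obtain ⟨-, a3⟩ := cm_list S (τ u) τ (fun x => m2 u x α α β)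
    [v, w, u + v, u + w, v + w, u + v + w] fun x hx => by
      obtain ⟨⟨b1, b2, b3⟩, b4⟩ := q x (List.mem_cons_of_mem _ hx)
      refine ⟨b4, ⟨⟨m2_fix b1 _ _ _ (hf_self u) b1, m2_fix b1 _ _ _ (hf_symm p.uv) b2⟩,
        m2_fix b1 _ _ _ (hf_symm p.uw) b3⟩, k u x b1 fun a b hab => ?_⟩
      simp only [List.mem_cons, List.not_mem_nil, or_false] at hx
      rcases hx with rfl | rfl | rfl | rfl | rfl | rfl
      · have := l a b 0 (by simpa using hab); exact ⟨this.1, this.2.1⟩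
      · have := l a 0 b (by simpa using hab); exact ⟨this.1, this.2.2⟩
      · have := l (a + b) b 0 (by rw [← hab]; module); exact ⟨by simpa [this.2.1] using this.1, this.2.1⟩
      · have := l (a + b) 0 b (by rw [← hab]; module); exact ⟨by simpa [this.2.2] using this.1, this.2.2⟩
      · have := l a b b (by rw [← hab]; module); exact ⟨this.1, this.2.1⟩
      · have := l (a + b) b b (by rw [← hab]; module); exact ⟨by simpa [this.2.1] using this.1, this.2.1⟩
  rw [prod6 p] at a3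
  have a4 : cm (τ u) ([u, v, w, u + v, u + w, v + w, u + v + w].map τ).prod = e (Tc α u) := by
    rw [List.map_cons, List.prod_cons]
    calc _ = τ u * cm (τ u) ([v, w, u + v, u + w, v + w, u + v + w].map τ).prod * (τ u)⁻¹ := by
          simp only [cm]; group
      _ = _ := by rw [a3, ← r.fix (ac_Tc_fix α (hf_self u)), mul_inv_cancel_right]
  obtain ⟨a, b, c, d, f, h, k1⟩ := aw.v3 _ u v w p l a2 fun g g1 g2 g3 =>
    (a1 _ ⟨g, ⟨⟨g1, g2⟩, g3⟩, rfl⟩).symm
  have k2 : e (m3 u v w a b c d f h) * τ u = τ u * e (m3 u v w a b c d f h) := r.fix (by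
    rw [m3, ac_mul, ac_mul, ac_mul, ac_qq_fix (hf_sm p.vw h) p.uv (by
      rw [hf_smul_right', p.uw, mul_zero]), ac_qq_fix (hf_sm p.uw f) (hf_self u) (by
      rw [hf_smul_right', p.uw, mul_zero]), ac_Tc_fix c p.uw, m2_fix p.uv _ _ _ (hf_self u) p.uv])
  rcases k1 with k1 | k1 <;> rw [k1] at a4
  · left
    rw [cm, ← k2, mul_inv_cancel_right, mul_inv_cancel, ← map_one e] at a4
    exact Tc_eq_one hu (hf_self u) (star_trivial α) (aw.inj a4).symm
  · right
    refine (Tc_inj hu (aw.inj ?_)).symm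
    rw [← a4]
    calc _ = t * e (TT u) * t⁻¹ := by rw [aw.cen, mul_inv_cancel_right]
      _ = τ u * t * (τ u)⁻¹ * (e (m3 u v w a b c d f h) * τ u) * (τ u)⁻¹ *
          (t * e (m3 u v w a b c d f h))⁻¹ := by rw [tt]; group
      _ = _ := by rw [k2]; simp only [cm]; group

theorem jobT1a : JobT1a.{u} := by
  classical
  intro n F _ _ _ _ _ _ G _ _ e t b c aw tr
  obtain ⟨τ, r, tt⟩ := exists_R0 aw tr
  obtain ⟨ρ, sq⟩ := exists_sq aw r tt
  obtain ⟨α, β, k⟩ := exists_ab aw r tt sq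
  rcases alpha aw r tt k p3 li3 with rfl | rfl
  · exact ⟨τ, β, ρ, ⟨r, fun u v h l => by simpa [m2] using k u v h l⟩, tt, sq⟩
  have ct : ∀ g, t * e g * t⁻¹ = e g := fun g => by rw [aw.cen, mul_inv_cancel_right]
  refine ⟨fun v => if v = 0 then 1 else τ v * t, β, 1 + ρ, ⟨⟨by simp, fun g v => ?_⟩,
    fun u v h l => ?_⟩, fun v => ?_, fun v => ?_⟩
  · by_cases h0 : v = 0
    · simp [h0]
    · rw [if_neg h0, if_neg (ac_ne h0), ← r.eqv g v, mul_assoc (e g * τ v), ← map_inv, ← aw.cen]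
      group
  · rw [if_neg (li_ne l), if_neg (li_ne (li_symm l))]
    have h1 : TT u * m2 u v 1 1 β * (TT v)⁻¹ = qq (β • v) u := by
      rw [m2, ← mul_assoc, ← mul_assoc, Tc_sq, one_mul, qq_conj _ (hf_sm h β), ac_Tc_fix 1 h,
        ac_Tc_fix 1 (by rw [hf_smul_left, hf_self, mul_zero])]
    calc _ = τ u * t * (τ u)⁻¹ * cm (τ u) (τ v) * (τ v * t * (τ v)⁻¹)⁻¹ := by simp only [cm]; group
      _ = t * e (TT u * m2 u v 1 1 β * (TT v)⁻¹) * t⁻¹ := by
        rw [tt, tt, k u v h l, map_mul, map_mul, map_inv]; group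
      _ = _ := by rw [ct, h1]
  · by_cases h0 : v = 0
    · simp [h0]
    · simp only [if_neg h0]
      rw [← tt v]; group
  · by_cases h0 : v = 0
    · simp [h0]
    · simp only [if_neg h0]
      calc _ = τ v * t * (τ v)⁻¹ * (τ v * τ v) * t := by group
        _ = t * e (TT v * Tc ρ v) * t⁻¹ := by
          rw [tt, sq, map_mul, inv_eq_of_mul_eq_one_right aw.tt]; group
        _ = _ := by rw [ct, Tc_mul]

end H6.Sp3T1a
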