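import Cfsg.Agent.H86.TP.Spec

/-! Tower NF (S1308), chapter TE part 1, job A3. -/

set_option autoImplicit false

open Cfsg Subgroup H14 H98 H1.Gold H14.GC H14.FE H86.TP
open scoped commutatorElement

namespace H6.TPA3

universe u

variable {G : Type u} [Group G] {Q Q' T R E P : Subgroup G}

theorem cen_conj {F : Subgroup G} {g c : G} (hg : g ∈ nor F) (hc : c ∈ cen F) :
    g * c * g⁻¹ ∈ cen F := by
  refine mem_centralizer_iff.2 fun f hf => ?_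
  have h1 : g⁻¹ * f * g⁻¹⁻¹ ∈ F := conj_mem_of_mem_normalizer (inv_mem hg) hf
  have h2 := mem_centralizer_iff.1 hc _ h1
  calc f * (g * c * g⁻¹) = g * (g⁻¹ * f * g⁻¹⁻¹ * c) * g⁻¹ := by group
    _ = g * c * g⁻¹ * f := by rw [h2]; group

/-- An element of `F` commuting with `y ∈ P \ E` lies in `E`. -/
theorem mem_of_comm (h : LP Q Q' T R E P) {y f : G} (hy : y ∈ P) (hyE : y ∉ E) (hf : f ∈ E ⊔ T)
    (c : f * y = y * f) : f ∈ E := by
  obtain ⟨r, hr, t, ht, rfl⟩ := (h.memF f).1 hf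
  by_cases h1 : t = 1
  · rwa [h1, mul_one]
  refine absurd (commutatorElement_eq_one_iff_mul_comm.2 ?_) (h.nd y hy hyE t ht h1)
  have c1 : r * y = y * r := mem_centralizer_iff.1 (h.cenE hy) r hr
  apply mul_left_cancel (a := r)
  rw [← mul_assoc, c, ← mul_assoc, ← mul_assoc, c1]

theorem jA3 : JobA3.{u} := by
  intro rv x2 od cq G _ _ Q Q' T R E P h
  by_cases hP : P = R
  swap
  · obtain ⟨x, hx⟩ := (x2 G Q Q' T R E P h).1 hP
    exact hx.sq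
  have hn := h.tq.nel R h.sylR
  unfold El at hn
  push Not at hn
  obtain ⟨y₀, hR, hy₀⟩ := hn
  have hP₀ : y₀ ∈ P := hP ▸ hR
  have hE₀ : y₀ ∉ E := fun k => hy₀ (h.elE y₀ k)
  intro y hy hyE
  obtain ⟨R', P', h'⟩ := rv G Q Q' T R E h.toLD
  obtain ⟨v, hv, hvT⟩ := SetLike.exists_of_lt h'.ltP
  obtain ⟨g₁, n1, c1⟩ := od G Q Q' T R E P R' P' h h' y hy hyE v hv hvT
  obtain ⟨g₀, n0, c0⟩ := od G Q Q' T R E P R' P' h h' y₀ hP₀ hE₀ v hv hvT
  have hg : g₁⁻¹ * g₀ ∈ nor (E ⊔ T) := mul_mem (inv_mem n1) n0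
  have hc : y⁻¹ * (g₁⁻¹ * g₀ * y₀ * (g₁⁻¹ * g₀)⁻¹) ∈ cen (E ⊔ T) := by
    have := cen_conj (inv_mem n1) (mul_mem (inv_mem c1) c0)
    convert this using 1
    group
  generalize g₁⁻¹ * g₀ = g at hg hc
  obtain ⟨e, he, -, -, ie, -⟩ := h.fourE
  have hEQ : E ≤ Q := fun a ha => (h.sylE.le ha).1
  have hF : g * e * g⁻¹ ∈ E ⊔ T := conj_mem_of_mem_normalizer hg (mem_sup_left he)
  have c2 : e * y₀ = y₀ * e := mem_centralizer_iff.1 (h.cenE hP₀) e he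
  have c3 := mem_centralizer_iff.1 hc _ hF
  have c4 : g * e * g⁻¹ * (g * y₀ * g⁻¹) = g * y₀ * g⁻¹ * (g * e * g⁻¹) := by
    calc g * e * g⁻¹ * (g * y₀ * g⁻¹) = g * (e * y₀) * g⁻¹ := by group
      _ = g * y₀ * g⁻¹ * (g * e * g⁻¹) := by rw [c2]; group
  have c5 : g * e * g⁻¹ * y = y * (g * e * g⁻¹) := by
    generalize g * e * g⁻¹ = f at c3 c4
    generalize g * y₀ * g⁻¹ = w at c3 c4
    rw [mul_assoc y⁻¹, ← c4] at c3
    calc f * y = y * (y⁻¹ * (f * w)) * w⁻¹ * y := by group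
      _ = y * (f * (y⁻¹ * w)) * w⁻¹ * y := by rw [c3]
      _ = y * f := by group
  have hE := mem_of_comm h hy hyE hF c5
  have ho : orderOf (g * e * g⁻¹) = 2 := by
    have : Fact (Nat.Prime 2) := ⟨Nat.prime_two⟩
    refine orderOf_eq_prime (by rw [sq]; exact h.elE _ hE) fun k => ie.1 ?_
    rwa [conj_eq_one_iff] at k
  have hgQ : g ∈ nor Q := te_mem_normalizer h.tq.te ho (hEQ hE)
    (mem_cj.2 (by simpa [mul_assoc] using hEQ he))
  obtain ⟨n, hn⟩ := h.sylR.isPGroup ⟨y₀, hR⟩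
  have hn' : y₀ ^ 2 ^ n = 1 := congrArg Subtype.val hn
  rw [← cq G Q Q' T R E P h y hy hyE (g * y₀ * g⁻¹) (conj_mem_of_mem_normalizer hgQ (h.sylR.le hR))
    ⟨n, by rw [conj_pow, hn']; group⟩ hc]
  intro k
  apply hy₀
  rwa [conj_mul, conj_eq_one_iff] at k

end H6.TPA3
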